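import Groth.Agent.Lib.ProjMor.Poly
import Groth.Prelude.Def_LCI2

/-!
# Immersions into projective space over an affine base
-/

noncomputable section

universe u

open CategoryTheory CategoryTheory.Limits AlgebraicGeometry TopologicalSpace Opposite

namespace Groth.Agent.Lib.ProjMor.Embed

open TensorMod TensorMod.Basic TensorMod.Free TensorMod.Dual TensorMod.Gen TensorMod.HomGlue TensorMod.Pullback
  Ample.GenLocus Sec Frame Char Rep

variable {X Y : Scheme.{u}}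

theorem generatedBy_of_locus {M : X.Modules} {κ : Type*} (t : κ → ProjUP.Γm M)
    (h : ∀ x, ∃ i, x ∈ locus (t i)) : ProjUP.GeneratedBy M t := by
  intro x
  obtain ⟨i, hx⟩ := h x
  have hb := H34.UFDExt.Gen.IsGen.stalk_bijective (M := M) (fun W hW => isGen_locus (t i) W hW) hx
  rw [eq_top_iff]
  intro v _
  obtain ⟨a, rfl⟩ := hb.2 v
  refine Submodule.smul_mem _ a (Submodule.subset_span ⟨i, ?_⟩)
  exact (TopCat.Presheaf.germ_res_apply M.presheaf (homOfLE le_top) x hx (t i)).symm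

/-- The ratio of two matched sections. -/
theorem ratio_of_iso {R A : Type u} [CommRing R] [CommRing A] [Algebra R A] {𝒜 : ℕ → Submodule R A}
    [GradedAlgebra 𝒜] {r : X ⟶ Proj 𝒜} {M : X.Modules}
    (τ : (Scheme.Modules.pullback r).obj (Twist.twist 𝒜 1) ≅ M) {a b : 𝒜 1} {va vb : ProjUP.Γm M}
    (ha : τ.hom.app ⊤ (ProjUP.pullSec r (Twist.twist 𝒜 1) (g 𝒜 a)) = va)
    (hb : τ.hom.app ⊤ (ProjUP.pullSec r (Twist.twist 𝒜 1) (g 𝒜 b)) = vb) {U : X.Opens}
    (h : U ≤ r ⁻¹ᵁ Proj.basicOpen 𝒜 (a : A)) :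
    gl vb U = r.appLE _ U h (fr 𝒜 a b) • gl va U := by
  have h1 := congrArg (fun z => τ.hom.app U z) (Uniq.gl_pullSec_g r a b h)
  simp only [Scheme.Modules.Hom.app_smul, app_gl, ha, hb] at h1
  exact h1

/-- Sections with affine loci and enough ratios give an immersion into projective space. -/
theorem isRelVeryAmplePn_of_sections (q : X ⟶ Y) (M : X.Modules) (hM : PicF.IsInvertible M) {N : ℕ}
    (t : Fin (N + 1) → ProjUP.Γm M) (I : Set (Fin (N + 1))) (hcov : ∀ x, ∃ i ∈ I, x ∈ locus (t i))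
    (haff : ∀ i ∈ I, IsAffineOpen (locus (t i))) (V : Fin (N + 1) → Y.Opens) (hV : ∀ i ∈ I, IsAffineOpen (V i))
    (hle : ∀ i, i ∈ I → locus (t i) ≤ q ⁻¹ᵁ V i)
    (hgen : ∀ i, ∀ hi : i ∈ I, ∀ z : Γ(X, locus (t i)), z ∈ Subring.closure
      (Set.range (q.appLE (V i) (locus (t i)) (hle i hi)).hom ∪
        {a | ∃ k, gl (t k) (locus (t i)) = a • gl (t i) (locus (t i))})) :
    RelAmple.IsRelVeryAmplePn q M := by
  let Z : Type u := ULift.{u} ℤ
  obtain ⟨r, hr, τ, hτ⟩ := Poly.exists_map N Z (q ≫ specULiftZIsTerminal.from Y) M hM t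
    (generatedBy_of_locus t fun x => by obtain ⟨i, -, h⟩ := hcov x; exact ⟨i, h⟩)
  let j : X ⟶ CohB1.ProjSpaceOver N Y := pullback.lift r q hr
  let p : CohB1.ProjSpaceOver N Y ⟶ CohB1.ProjSpace N Z := pullback.fst _ _
  let π : CohB1.ProjSpaceOver N Y ⟶ Y := pullback.snd _ _
  have hjp : j ≫ p = r := pullback.lift_fst _ _ _
  have hjπ : j ≫ π = q := pullback.lift_snd _ _ _
  let 𝒜 := CohB1.polyGrading N Z
  let el : Fin (N + 1) → 𝒜 1 := fun i => ⟨MvPolynomial.X i, MvPolynomial.isHomogeneous_X Z i⟩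
  have hadj := Poly.adjoin_lin N Z
  have hcv := Main.cover (Poly.lin_mem N Z) hadj
  have hinv : PicF.IsInvertible (Twist.twist 𝒜 1) :=
    Groth.Agent.Lib.ProjTilde.Invertible.twist_isInvertible_of_cover (fun x => by
      obtain ⟨c, hc⟩ := hcv x
      exact ⟨c, c.2, hc⟩) 1
  have hloc : ∀ i, locus (t i) = r ⁻¹ᵁ Proj.basicOpen 𝒜 (el i : MvPolynomial (Fin (N + 1)) Z) := fun i => by
    rw [← locus_g hcv (el i)]
    exact (congrArg locus (hτ i)).symm.trans ((locus_iso τ _).trans (locus_pullback hinv r _))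
  have hratio : ∀ i k, gl (t k) (locus (t i)) =
      r.appLE _ (locus (t i)) (hloc i).le (fr 𝒜 (el i) (el k)) • gl (t i) (locus (t i)) := fun i k =>
    ratio_of_iso (a := el i) (b := el k) τ (hτ i) (hτ k) (hloc i).le
  let Dp : Fin (N + 1) → (CohB1.ProjSpaceOver N Y).Opens := fun i =>
    π ⁻¹ᵁ V i ⊓ p ⁻¹ᵁ Proj.basicOpen 𝒜 (el i : MvPolynomial (Fin (N + 1)) Z)
  have hDaff : ∀ i ∈ I, IsAffineOpen (Dp i) := fun i hi => by
    haveI : IsAffine (V i : Scheme.{u}) := hV i hi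
    let O := π ⁻¹ᵁ V i
    have hp : IsAffineHom (O.ι ≫ p) := by
      have h1 : IsPullback (O.ι ≫ p) (π ∣_ V i)
          (CohB1.ProjSpace.toSpec N Z) ((V i).ι ≫ specULiftZIsTerminal.from Y) :=
        (isPullback_morphismRestrict π (V i)).flip.paste_horiz (IsPullback.of_hasPullback _ _)
      exact MorphismProperty.of_isPullback h1.flip
        (inferInstance : IsAffineHom ((V i).ι ≫ specULiftZIsTerminal.from Y))
    have h := @IsAffineOpen.preimage _ _ _ (Proj.isAffineOpen_basicOpen 𝒜 _ (el i).2 one_pos) (O.ι ≫ p) hp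
    have h2 := (O.ι.isAffineOpen_iff_of_isOpenImmersion).2 h
    rwa [Scheme.Hom.comp_preimage, Scheme.Hom.image_preimage_eq_opensRange_inf, Scheme.Opens.opensRange_ι] at h2
  let Ω : (CohB1.ProjSpaceOver N Y).Opens := ⨆ i : I, Dp i
  have hjD : ∀ i ∈ I, j ⁻¹ᵁ Dp i = locus (t i) := fun i hi => by
    have e1 : j ⁻¹ᵁ (π ⁻¹ᵁ V i) = q ⁻¹ᵁ V i := congrArg (fun φ : X ⟶ Y => φ ⁻¹ᵁ V i) hjπ
    have e2 : j ⁻¹ᵁ (p ⁻¹ᵁ Proj.basicOpen 𝒜 (el i : MvPolynomial (Fin (N + 1)) Z)) = locus (t i) := by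
      rw [hloc, ← Scheme.Hom.comp_preimage]
      exact congrArg (fun φ : X ⟶ CohB1.ProjSpace N Z => φ ⁻¹ᵁ _) hjp
    refine (Scheme.Hom.preimage_inf j).trans ?_
    rw [e1, e2]
    exact inf_eq_right.2 (hle i hi)
  have hΩ : (⊤ : X.Opens) ≤ j ⁻¹ᵁ Ω := fun x _ => by
    obtain ⟨i, hi, hx⟩ := hcov x
    rw [← hjD i hi] at hx
    exact Opens.mem_iSup.2 ⟨⟨i, hi⟩, hx⟩
  have hclosed : ∀ i ∈ I, IsClosedImmersion (j ∣_ Dp i) := fun i hi => by
    haveI : IsAffine (Dp i : Scheme.{u}) := hDaff i hi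
    haveI : IsAffine (j ⁻¹ᵁ Dp i : Scheme.{u}) := by rw [hjD i hi]; exact haff i hi
    refine IsClosedImmersion.of_surjective_of_isAffine _ ?_
    suffices h : Function.Surjective (j.appLE (Dp i) (locus (t i)) (hjD i hi).ge) by
      have e : (j ∣_ Dp i).appTop = (Dp i).topIso.hom ≫ j.appLE (Dp i) (j ⁻¹ᵁ Dp i) le_rfl ≫
          (j ⁻¹ᵁ Dp i).topIso.inv := by
        rw [← Scheme.Hom.resLE_eq_morphismRestrict]
        exact Scheme.Hom.resLE_app_top _ _
      rw [e]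
      refine ((ConcreteCategory.bijective_of_isIso (j ⁻¹ᵁ Dp i).topIso.inv).2.comp
        (Function.Surjective.comp ?_ (ConcreteCategory.bijective_of_isIso (Dp i).topIso.hom).2))
      have key : ∀ (V : X.Opens) (hV : V = locus (t i)) (hle : V ≤ j ⁻¹ᵁ Dp i),
          Function.Surjective (j.appLE (Dp i) V hle) := by
        rintro V rfl hle
        exact h
      exact key _ (hjD i hi) le_rfl
    intro z
    refine (Subring.closure_le (t := (j.appLE (Dp i) (locus (t i)) (hjD i hi).ge).hom.range)).2 ?_ (hgen i hi z)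
    rintro a (⟨y, rfl⟩ | ⟨k, hk⟩)
    · refine ⟨π.appLE (V i) (Dp i) inf_le_left y, ?_⟩
      rw [← ConcreteCategory.comp_apply, Scheme.Hom.appLE_comp_appLE]
      simp only [hjπ]
    · have ha : a = r.appLE _ (locus (t i)) (hloc i).le (fr 𝒜 (el i) (el k)) :=
        (isGen_locus (t i) _ le_rfl).1 (by simpa only [rs_self] using hk.symm.trans (hratio i k))
      refine ⟨p.appLE _ (Dp i) inf_le_right (fr 𝒜 (el i) (el k)), ?_⟩
      rw [← ConcreteCategory.comp_apply, Scheme.Hom.appLE_comp_appLE, ha]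
      simp only [hjp]
  have himm : IsImmersion j := by
    let k : X ⟶ (Ω : Scheme.{u}) := IsOpenImmersion.lift Ω.ι j (by
      rw [Scheme.Opens.range_ι]
      rintro _ ⟨x, rfl⟩
      exact hΩ (Opens.mem_top x))
    have hk : k ≫ Ω.ι = j := IsOpenImmersion.lift_fac _ _ _
    haveI : IsClosedImmersion k := by
      refine IsZariskiLocalAtTarget.of_iSup_eq_top (P := @IsClosedImmersion) (fun i : I => Ω.ι ⁻¹ᵁ Dp i) ?_
        fun i => ?_
      · rw [← Scheme.Hom.preimage_iSup]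
        exact top_le_iff.1 fun x _ => x.2
      · have hsq : IsPullback (k ⁻¹ᵁ (Ω.ι ⁻¹ᵁ Dp i)).ι (k ∣_ (Ω.ι ⁻¹ᵁ Dp i)) k (Ω.ι ⁻¹ᵁ Dp i).ι :=
          (isPullback_morphismRestrict k _).flip
        have hP : IsClosedImmersion (j ∣_ Dp i) := hclosed i i.2
        rw [← hk, morphismRestrict_comp] at hP
        exact @IsClosedImmersion.of_comp _ _ _ (k ∣_ (Ω.ι ⁻¹ᵁ Dp i)) (Ω.ι ∣_ Dp i) hP inferInstance
    rw [← hk]
    infer_instance
  refine ⟨N, j, himm, hjπ, ⟨τ.symm ≪≫ ?_⟩⟩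
  exact (Scheme.Modules.pullbackCongr hjp.symm).app (Twist.twist 𝒜 1) ≪≫
    ((Scheme.Modules.pullbackComp j p).app (Twist.twist 𝒜 1)).symm

end Groth.Agent.Lib.ProjMor.Embed
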