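import Groth.Agent.Lib.ProjMor.Uniq

/-!
# The polynomial ring
-/

noncomputable section

universe u

open CategoryTheory AlgebraicGeometry TopologicalSpace Opposite

namespace Groth.Agent.Lib.ProjMor.Poly

open Sec Frame Char Main

variable (n : ℕ) (R : Type u) [CommRing R]

/-- Linear forms. -/
def lin : (ULift.{u} (Fin (n + 1)) → R) →ₗ[R] MvPolynomial (Fin (n + 1)) R :=
  Fintype.linearCombination R fun i => MvPolynomial.X i.down

theorem lin_mem (m : ULift.{u} (Fin (n + 1)) → R) : lin n R m ∈ CohB1.polyGrading n R 1 := by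
  rw [lin, Fintype.linearCombination_apply]
  exact Submodule.sum_mem _ fun i _ => Submodule.smul_mem _ _ (MvPolynomial.isHomogeneous_X R i.down)

theorem lin_single (i : Fin (n + 1)) : lin n R (Pi.single ⟨i⟩ 1) = MvPolynomial.X i := by
  classical
  rw [lin, Fintype.linearCombination_apply_single, one_smul]

theorem adjoin_lin : Algebra.adjoin R (Set.range (lin n R)) = ⊤ :=
  top_le_iff.1 (MvPolynomial.adjoin_range_X (R := R) ▸ Algebra.adjoin_mono (by
    rintro _ ⟨i, rfl⟩; exact ⟨_, lin_single n R i⟩))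

theorem lift_lin (B : Type u) [CommRing B] [Algebra R B] (c : (ULift.{u} (Fin (n + 1)) → R) →ₗ[R] B) :
    ∃ φ : MvPolynomial (Fin (n + 1)) R →ₐ[R] B, ∀ m, φ (lin n R m) = c m := by
  classical
  refine ⟨MvPolynomial.aeval fun i => c (Pi.single ⟨i⟩ 1), fun m => ?_⟩
  refine LinearMap.congr_fun (f := (MvPolynomial.aeval fun i => c (Pi.single ⟨i⟩ 1)).toLinearMap.comp (lin n R))
    ((Pi.basisFun R _).ext fun i => ?_) m
  simp only [Pi.basisFun_apply, LinearMap.comp_apply, AlgHom.toLinearMap_apply]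
  rw [show lin n R (Pi.single i 1) = MvPolynomial.X i.down from lin_single n R i.down, MvPolynomial.aeval_X]

theorem coord_eq (i : Fin (n + 1)) :
    ProjUP.coord n R i = g (CohB1.polyGrading n R) ⟨lin n R (Pi.single ⟨i⟩ 1), lin_mem n R _⟩ :=
  congrArg (g (CohB1.polyGrading n R)) (Subtype.ext (lin_single n R i).symm)

theorem exists_map {X : Scheme.{u}} (q : X ⟶ Spec (CommRingCat.of R)) (L : X.Modules) (hL : PicF.IsInvertible L)
    (s : Fin (n + 1) → ProjUP.Γm L) (hs : ProjUP.GeneratedBy L s) :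
    ∃ (r : X ⟶ CohB1.ProjSpace n R) (_ : r ≫ CohB1.ProjSpace.toSpec n R = q)
      (τ : (Scheme.Modules.pullback r).obj (Twist.twistProjSpace n R 1) ≅ L),
      ∀ i, τ.hom.app ⊤ (ProjUP.pullSec r (Twist.twistProjSpace n R 1) (ProjUP.coord n R i)) = s i := by
  classical
  let v : (ULift.{u} (Fin (n + 1)) → R) →+ ProjUP.Γm L :=
    { toFun := fun m => ∑ i, ProjUP.toGlobal q (m ⟨i⟩) • s i
      map_zero' := by simp
      map_add' := fun a b => by simp [add_smul, Finset.sum_add_distrib] }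
  have hsingle : ∀ i, v (Pi.single ⟨i⟩ 1) = s i := fun i => by
    change ∑ j, ProjUP.toGlobal q ((Pi.single ⟨i⟩ 1 : ULift.{u} (Fin (n + 1)) → R) ⟨j⟩) • s j = s i
    rw [Finset.sum_eq_single i]
    · simp
    · intro j _ hj
      rw [Pi.single_eq_of_ne (fun h => hj (congrArg ULift.down h)), map_zero, zero_smul]
    · simp
  obtain ⟨r, hr, τ, hτ⟩ := Main.exists_map (lin_mem n R) (adjoin_lin n R) (lift_lin n R) q hL v
    (fun a m => by
      change ∑ i, ProjUP.toGlobal q ((a • m) ⟨i⟩) • s i = ProjUP.toGlobal q a • ∑ i, ProjUP.toGlobal q (m ⟨i⟩) • s i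
      rw [Finset.smul_sum]
      simp [mul_smul])
    (fun x => top_le_iff.1 ((hs x).ge.trans (Submodule.span_mono (by
      rintro _ ⟨i, rfl⟩; exact ⟨Pi.single ⟨i⟩ 1, congrArg _ (hsingle i)⟩))))
  refine ⟨r, hr, τ, fun i => ?_⟩
  rw [coord_eq]
  exact (hτ _).trans (hsingle i)

theorem eq_of_iso {X : Scheme.{u}} (r r' : X ⟶ CohB1.ProjSpace n R)
    (hrr' : r ≫ CohB1.ProjSpace.toSpec n R = r' ≫ CohB1.ProjSpace.toSpec n R)
    (τ : (Scheme.Modules.pullback r).obj (Twist.twistProjSpace n R 1) ≅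
      (Scheme.Modules.pullback r').obj (Twist.twistProjSpace n R 1))
    (hτ : ∀ i, τ.hom.app ⊤ (ProjUP.pullSec r (Twist.twistProjSpace n R 1) (ProjUP.coord n R i)) =
      ProjUP.pullSec r' (Twist.twistProjSpace n R 1) (ProjUP.coord n R i)) :
    r = r' := by
  classical
  refine Uniq.eq_of_iso_span (lin_mem n R) (adjoin_lin n R) (Pi.basisFun R _).span_eq hrr' τ ?_
  rintro _ ⟨i, rfl⟩
  obtain ⟨i⟩ := i
  have h := hτ i
  rw [coord_eq] at h
  simp only [Pi.basisFun_apply]
  exact h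

end Groth.Agent.Lib.ProjMor.Poly
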