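import Groth.Agent.Lib.ProjMor.VeryAmple
import Groth.Agent.Lib.HProj.QuasiProj
import Groth.Agent.Lib.Ample.Pullback

/-!
# Very ample implies relatively ample; corollaries
-/

noncomputable section

universe u

open CategoryTheory CategoryTheory.Limits AlgebraicGeometry TopologicalSpace

namespace Groth.Agent.Lib.ProjMor.Conv

variable {X S : Scheme.{u}}

theorem isRelVeryAmplePn_of_iso {f : X ⟶ S} {L M : X.Modules} (e : L ≅ M)
    (h : _root_.RelAmple.IsRelVeryAmplePn f L) : _root_.RelAmple.IsRelVeryAmplePn f M := by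
  obtain ⟨n, i, hi, hcomp, ⟨φ⟩⟩ := h
  exact ⟨n, i, hi, hcomp, ⟨e.symm ≪≫ φ⟩⟩

theorem isRelAmple_of_immersion (f : X ⟶ S) [QuasiCompact f] (N : ℕ) (j : X ⟶ CohB1.ProjSpaceOver N S)
    [IsImmersion j] (hj : j ≫ CohB1.ProjSpaceOver.toBase N S = f) :
    _root_.RelAmple.IsRelAmple f ((TensorMod.Pullback.pb j).obj (Twist.twistOver N S 1)) := by
  let Z : Type u := ULift.{u} ℤ
  let p : CohB1.ProjSpaceOver N S ⟶ CohB1.ProjSpace N Z :=
    pullback.fst (CohB1.ProjSpace.toSpec N Z) (specULiftZIsTerminal.from S)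
  let M : (CohB1.ProjSpace N Z).Modules := Twist.twist (CohB1.polyGrading N Z) 1
  refine (Ample.RelAmple.isRelAmple_iff f).2 ⟨‹_›, fun V hV => ?_⟩
  haveI : IsAffine (V : Scheme.{u}) := hV
  haveI : CompactSpace (f ⁻¹ᵁ V : Scheme.{u}) := QuasiCompact.compactSpace_of_compactSpace (f ∣_ V)
  let O := CohB1.ProjSpaceOver.toBase N S ⁻¹ᵁ V
  have hle : f ⁻¹ᵁ V ≤ j ⁻¹ᵁ O := le_of_eq (by rw [← hj]; rfl)
  let k : (f ⁻¹ᵁ V : Scheme.{u}) ⟶ (O : Scheme.{u}) := j.resLE O (f ⁻¹ᵁ V) hle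
  haveI : IsImmersion k := by
    have : IsImmersion (k ≫ O.ι) := by rw [Scheme.Hom.resLE_comp_ι]; infer_instance
    exact IsImmersion.of_comp k O.ι
  haveI : IsAffineHom (O.ι ≫ p) := by
    have h1 : IsPullback (O.ι ≫ p) (CohB1.ProjSpaceOver.toBase N S ∣_ V)
        (CohB1.ProjSpace.toSpec N Z) (V.ι ≫ specULiftZIsTerminal.from S) := by
      have h2 := (isPullback_morphismRestrict (CohB1.ProjSpaceOver.toBase N S) V).flip
      exact (h2.paste_horiz (IsPullback.of_hasPullback _ _))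
    exact MorphismProperty.of_isPullback h1.flip (inferInstance : IsAffineHom (V.ι ≫ specULiftZIsTerminal.from S))
  haveI : QuasiSeparatedSpace ↥(CohB1.ProjSpace N Z) := by
    haveI := ProjSpace.Basic.isProper_toSpec N Z
    exact quasiSeparatedSpace_of_quasiSeparated (CohB1.ProjSpace.toSpec N Z)
  haveI : QuasiSeparatedSpace ↥(O : Scheme.{u}) := quasiSeparatedSpace_of_quasiSeparated (O.ι ≫ p)
  haveI : QuasiCompact k := quasiCompact_of_compactSpace k
  have hq : Mor2.IsQuasiAffine (k ≫ O.ι ≫ p) := by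
    refine ⟨inferInstance, fun W hW => ?_⟩
    have h := (Ample.RelAmple.isQuasiAffine_of_isImmersion k).2 ((O.ι ≫ p) ⁻¹ᵁ W) (hW.preimage (O.ι ≫ p))
    rwa [← Scheme.Hom.comp_preimage] at h
  refine Ample.Pow.isAmple_of_iso ?_ (Ample.Pullback.isAmple_pullback _ hq
    (HProj.QuasiProj.isAmple_twist_projSpace N Z))
  exact (Scheme.Modules.pullbackCongr (Scheme.Hom.resLE_comp_ι_assoc j hle p)).app M ≪≫
    ((Scheme.Modules.pullbackComp (f ⁻¹ᵁ V).ι (j ≫ p)).app M).symm ≪≫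
    (Scheme.Modules.pullback (f ⁻¹ᵁ V).ι).mapIso ((Scheme.Modules.pullbackComp j p).app M).symm

theorem isRelAmple_of_isRelVeryAmplePn {f : X ⟶ S} [QuasiCompact f] {L : X.Modules}
    (h : _root_.RelAmple.IsRelVeryAmplePn f L) : _root_.RelAmple.IsRelAmple f L := by
  obtain ⟨n, i, hi, hcomp, ⟨φ⟩⟩ := h
  refine (Ample.RelAmple.isRelAmple_iff f).2 ⟨‹_›, fun V hV => ?_⟩
  refine Ample.Pow.isAmple_of_iso ?_
    (((Ample.RelAmple.isRelAmple_iff f).1 (isRelAmple_of_immersion f n i hcomp)).2 V hV)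
  exact (Scheme.Modules.pullback (f ⁻¹ᵁ V).ι).mapIso φ.symm

/-- Eventual very ampleness of powers. -/
theorem eventually_veryAmple_pow (q : X ⟶ S) [LocallyOfFiniteType q] {L : X.Modules}
    (hL : CohB1.IsAmple L) : ∃ n₀ : ℕ, ∀ n, n₀ ≤ n → _root_.RelAmple.IsRelVeryAmplePn q (CohB1.tensorPow L n) := by
  haveI := Ample.Pullback.quasiSeparatedSpace_of_isAmple hL
  have hO : PicF.IsInvertible (Coh.structureModule X) := TensorMod.Invertible.isInvertible_tensorPow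
    (Ample.Pow.isAmple_iff.1 hL).1 0
  obtain ⟨n₀, h⟩ := VeryAmple.eventually_veryAmple q hL hO
  exact ⟨n₀, fun n hn => isRelVeryAmplePn_of_iso (TensorMod.Basic.rightUnit _) (h n hn)⟩

theorem isAmple_of_veryAmple_pow [IsAffine S] (q : X ⟶ S) [QuasiCompact q] {L : X.Modules}
    (hL : PicF.IsInvertible L) {n : ℕ} (hn : 0 < n)
    (h : _root_.RelAmple.IsRelVeryAmplePn q (CohB1.tensorPow L n)) : CohB1.IsAmple L :=
  (Ample.Pow.isAmple_tensorPow_iff hL hn).2
    ((Ample.RelAmple.isRelAmple_iff_isAmple q).1 (isRelAmple_of_isRelVeryAmplePn h))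

end Groth.Agent.Lib.ProjMor.Conv
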