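import Mathlib.AlgebraicGeometry.Morphisms.Immersion
import Mathlib.AlgebraicGeometry.Morphisms.ClosedImmersion
import Mathlib.AlgebraicGeometry.Morphisms.Separated

/-!
# Immersions from closed immersions on pieces
-/

noncomputable section

universe u

open CategoryTheory CategoryTheory.Limits AlgebraicGeometry TopologicalSpace

namespace Groth.Agent.Lib.ProjMor.Pieces

variable {X P : Scheme.{u}}

/-- A morphism of affine pieces is a closed immersion if surjective on sections. -/
theorem isClosedImmersion_restrict (j : X ⟶ P) {D : P.Opens} {U : X.Opens} (hD : IsAffineOpen D)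
    (hU : IsAffineOpen U) (hjD : j ⁻¹ᵁ D = U) (h : Function.Surjective (j.appLE D U hjD.ge)) :
    IsClosedImmersion (j ∣_ D) := by
  subst hjD
  have : IsAffine (D : Scheme.{u}) := hD
  have : IsAffine (j ⁻¹ᵁ D : Scheme.{u}) := hU
  refine IsClosedImmersion.of_surjective_of_isAffine _ ?_
  have e : (j ∣_ D).appTop = D.topIso.hom ≫ j.appLE D (j ⁻¹ᵁ D) le_rfl ≫ (j ⁻¹ᵁ D).topIso.inv := by
    rw [← Scheme.Hom.resLE_eq_morphismRestrict]
    exact Scheme.Hom.resLE_app_top _ _
  rw [e]
  exact ((ConcreteCategory.bijective_of_isIso (j ⁻¹ᵁ D).topIso.inv).2.comp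
    (Function.Surjective.comp h (ConcreteCategory.bijective_of_isIso D.topIso.hom).2))

/-- Closed immersions on opens whose preimages cover give an immersion. -/
theorem isImmersion_of_pieces (j : X ⟶ P) {ι : Type*} (D : ι → P.Opens) (hcov : ∀ x, ∃ i, j x ∈ D i)
    (h : ∀ i, IsClosedImmersion (j ∣_ D i)) : IsImmersion j := by
  let Ω : P.Opens := ⨆ i, D i
  let k : X ⟶ (Ω : Scheme.{u}) := IsOpenImmersion.lift Ω.ι j (by
    rw [Scheme.Opens.range_ι]
    rintro _ ⟨x, rfl⟩
    obtain ⟨i, hi⟩ := hcov x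
    exact Opens.mem_iSup.2 ⟨i, hi⟩)
  have hk : k ≫ Ω.ι = j := IsOpenImmersion.lift_fac _ _ _
  have : IsClosedImmersion k := by
    refine IsZariskiLocalAtTarget.of_iSup_eq_top (P := @IsClosedImmersion) (fun i => Ω.ι ⁻¹ᵁ D i) ?_ fun i => ?_
    · rw [← Scheme.Hom.preimage_iSup]
      exact top_le_iff.1 fun x _ => x.2
    · have hP : IsClosedImmersion (j ∣_ D i) := h i
      rw [← hk, morphismRestrict_comp] at hP
      exact @IsClosedImmersion.of_comp _ _ _ (k ∣_ (Ω.ι ⁻¹ᵁ D i)) (Ω.ι ∣_ D i) hP inferInstance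
  rw [← hk]
  infer_instance

end Groth.Agent.Lib.ProjMor.Pieces
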