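import Groth.Agent.Lib.ProjMor.Embed
import Groth.Agent.Lib.Ample.GG

/-!
# Large powers of an ample module give immersions into projective space
-/

noncomputable section

universe u

open CategoryTheory CategoryTheory.Limits AlgebraicGeometry TopologicalSpace Opposite

namespace Groth.Agent.Lib.ProjMor.VeryAmple

open TensorMod TensorMod.Basic TensorMod.Free TensorMod.Dual TensorMod.Gen TensorMod.HomGlue TensorMod.Pullback
  Ample.GenLocus Ample.Pow Ample.Extend Ample.Basis Sec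

variable {X Y : Scheme.{u}} {A B M : X.Modules}

/-- The product of sections, typed as a section. -/
abbrev tm (A B : X.Modules) {U : X.Opens} (a : Γ(A, U)) (b : Γ(B, U)) : Γ(CohB1.tensorMod A B, U) :=
  SecTwist.tmul A B U a b

theorem gl_tmul (a : Γ(A, ⊤)) (b : Γ(B, ⊤)) (U : X.Opens) :
    gl (tm A B a b) U =
      tm A B (gl a U) (gl b U) :=
  rs_tmul le_top a b

theorem locus_tmul (hA : PicF.IsInvertible A) (hB : PicF.IsInvertible B) (a : Γ(A, ⊤)) (b : Γ(B, ⊤)) :
    locus (tm A B a b) = locus a ⊓ locus b := by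
  have h : Modules.Free.unitHom _ (tm A B a b) =
      SecTwist.tmulHom (Modules.Free.unitHom A a) (Modules.Free.unitHom B b) := by
    refine Modules.Free.unitHom_ext ((Modules.Free.unitHom_app_one _ _).trans ?_)
    refine Eq.trans ?_ (SecTwist.val_tmulHom (Modules.Free.unitHom A a) (Modules.Free.unitHom B b) ⊤).symm
    exact congrArg₂ (fun x y => tm A B x y)
      (Modules.Free.unitHom_app_one A a).symm (Modules.Free.unitHom_app_one B b).symm
  rw [locus, h]
  exact genLocus_tmulHom hA hB _ _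

/-- Frames of two invertible modules on the members of a cover by affine loci. -/
theorem exists_adapted_cover [QuasiSeparatedSpace X] (q : X ⟶ Y) {L L' : X.Modules} (hL : CohB1.IsAmple L)
    (hL' : PicF.IsInvertible L') :
    ∃ m : ℕ, 0 < m ∧ ∃ (N : ℕ) (s : Fin N → (Coh.structureModule X ⟶ CohB1.tensorPow L m)),
      (∀ i, IsAffineOpen (CohB1.genLocus _ (s i))) ∧ (∀ x, ∃ i, x ∈ CohB1.genLocus _ (s i)) ∧
      ∀ i, (∃ e : Γ(L, CohB1.genLocus _ (s i)), IsGen L _ e) ∧
        (∃ e' : Γ(L', CohB1.genLocus _ (s i)), IsGen L' _ e') ∧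
        ∃ V : Y.Opens, IsAffineOpen V ∧ CohB1.genLocus _ (s i) ≤ q ⁻¹ᵁ V := by
  classical
  obtain ⟨hi, hc, -⟩ := Ample.Pow.isAmple_iff.1 hL
  have h : ∀ x : X, ∃ n : ℕ, 0 < n ∧ ∃ s : Coh.structureModule X ⟶ CohB1.tensorPow L n,
      x ∈ CohB1.genLocus _ s ∧ IsAffineOpen (CohB1.genLocus _ s) ∧
      (∃ e : Γ(L, CohB1.genLocus _ s), IsGen L _ e) ∧ (∃ e' : Γ(L', CohB1.genLocus _ s), IsGen L' _ e') ∧
        ∃ V : Y.Opens, IsAffineOpen V ∧ CohB1.genLocus _ s ≤ q ⁻¹ᵁ V :=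
    fun x => by
    obtain ⟨U, e, hxU, he⟩ := isInvertible_iff.1 hi x
    obtain ⟨U', e', hxU', he'⟩ := isInvertible_iff.1 hL' x
    obtain ⟨V, hV, hxV, -⟩ := exists_isAffineOpen_mem_and_subset (x := q x) (U := (⊤ : Y.Opens)) trivial
    obtain ⟨n, hn, s, hxs, hle, hs⟩ := exists_locus_subset hL (U := U ⊓ U' ⊓ q ⁻¹ᵁ V) ⟨⟨hxU, hxU'⟩, hxV⟩
    exact ⟨n, hn, s, hxs, hs, ⟨_, he.res (hle.trans (inf_le_left.trans inf_le_left))⟩,
      ⟨_, he'.res (hle.trans (inf_le_left.trans inf_le_right))⟩, V, hV, hle.trans inf_le_right⟩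
  choose n hn s hxs hs hf hf' V hV hVle using h
  obtain ⟨t, ht⟩ := isCompact_univ.elim_finite_subcover (fun x => (CohB1.genLocus _ (s x) : Set X))
    (fun x => (CohB1.genLocus _ (s x)).isOpen) fun x _ => Set.mem_iUnion.2 ⟨x, hxs x⟩
  let y : Fin t.card → X := fun i => (t.equivFin.symm i : X)
  let K := ∏ i, n (y i)
  let k : Fin t.card → ℕ := fun i => ∏ j ∈ Finset.univ.erase i, n (y j)
  have hnk : ∀ i, n (y i) * k i = K := fun i =>
    Finset.mul_prod_erase _ (fun j => n (y j)) (Finset.mem_univ i)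
  let s' : Fin t.card → (Coh.structureModule X ⟶ CohB1.tensorPow L K) := fun i =>
    SecTwist.powHom (s (y i)) (k i) ≫ (powMul L (n (y i)) (k i) ≪≫ powCongr L (hnk i)).hom
  have hloc : ∀ i, CohB1.genLocus _ (s' i) = CohB1.genLocus _ (s (y i)) := fun i => by
    rw [genLocus_comp_iso, genLocus_powHom (Invertible.isInvertible_tensorPow hi _) _ _
      (Finset.prod_pos fun w _ => hn _)]
  have key : ∀ (i : Fin t.card) (O : X.Opens), O = CohB1.genLocus _ (s (y i)) →
      IsAffineOpen O ∧ (∃ e : Γ(L, O), IsGen L _ e) ∧ (∃ e' : Γ(L', O), IsGen L' _ e') ∧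
        ∃ V : Y.Opens, IsAffineOpen V ∧ O ≤ q ⁻¹ᵁ V := by
    rintro i O rfl
    exact ⟨hs _, hf _, hf' _, _, hV _, hVle _⟩
  refine ⟨K, Finset.prod_pos fun i _ => hn _, t.card, s', fun i => (key i _ (hloc i)).1, fun x => ?_,
    fun i => (key i _ (hloc i)).2⟩
  obtain ⟨z, hz, hxz⟩ := Set.mem_iUnion₂.1 (ht (Set.mem_univ x))
  refine ⟨t.equivFin ⟨z, hz⟩, ?_⟩
  rw [hloc]
  have e : y (t.equivFin ⟨z, hz⟩) = z := congrArg Subtype.val (t.equivFin.symm_apply_apply ⟨z, hz⟩)
  rw [e]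
  exact hxz

/-- Finite generators over the base of a locally finite type affine open. -/
theorem exists_gens (q : X ⟶ Y) [LocallyOfFiniteType q] {U : X.Opens} (hU : IsAffineOpen U) {V : Y.Opens}
    (hV : IsAffineOpen V) (hle : U ≤ q ⁻¹ᵁ V) :
    ∃ t : Finset Γ(X, U), ∀ z, z ∈ Subring.closure (Set.range (q.appLE V U hle).hom ∪ (t : Set Γ(X, U))) := by
  have h := q.finiteType_appLE hV hU hle
  algebraize [(q.appLE V U hle).hom]
  obtain ⟨t, ht⟩ := (inferInstance : Algebra.FiniteType Γ(Y, V) Γ(X, U)).out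
  refine ⟨t, fun z => ?_⟩
  have hz : z ∈ (Algebra.adjoin Γ(Y, V) (t : Set Γ(X, U))).toSubring := by rw [ht]; trivial
  rwa [Algebra.adjoin_eq_ring_closure] at hz

/-- Large powers of an ample `L`, tensored by any invertible `L'`, are very ample. -/
theorem eventually_veryAmple (q : X ⟶ Y) [LocallyOfFiniteType q] [QuasiSeparatedSpace X]
    {L L' : X.Modules} (hL : CohB1.IsAmple L) (hL' : PicF.IsInvertible L') :
    ∃ n₀ : ℕ, ∀ n, n₀ ≤ n → RelAmple.IsRelVeryAmplePn q (CohB1.tensorMod (CohB1.tensorPow L n) L') := by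
  classical
  obtain ⟨hi, hc, -⟩ := Ample.Pow.isAmple_iff.1 hL
  haveI := hc
  obtain ⟨m, hm, N, s, hs, hcov, hfr⟩ := exists_adapted_cover q hL hL'
  choose V hV hVle using fun i => (hfr i).2.2
  choose gens hgens using fun i => exists_gens q (hs i) (hV i) (hVle i)
  let P := CohB1.tensorPow L m
  have hP : PicF.IsInvertible P := Invertible.isInvertible_tensorPow hi m
  let F : ℕ → X.Modules := fun e => CohB1.tensorMod (CohB1.tensorPow L e) L'
  have hF : ∀ e, PicF.IsInvertible (F e) := fun e =>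
    Invertible.isInvertible_tensorMod (Invertible.isInvertible_tensorPow hi e) hL'
  have hframe : ∀ e i, ∃ f : Γ(F e, CohB1.genLocus _ (s i)), IsGen (F e) _ f := fun e i => by
    obtain ⟨a, ha⟩ := (hfr i).1
    obtain ⟨b, hb⟩ := (hfr i).2.1
    exact ⟨_, isGen_tmul (isGen_powSec ha e) hb⟩
  choose f hf using hframe
  let Idx : Type u := Σ i : ULift.{u} (Fin N), Option (gens i.down)
  let z : ∀ k : Idx, Γ(X, CohB1.genLocus _ (s k.1.down)) := fun k => k.2.elim 1 (fun b => b.1)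
  have hext : ∀ᶠ c in Filter.atTop, ∀ (e : Fin m) (k : Idx),
      ∃ t' : Γ(CohB1.tensorMod (F e) (CohB1.tensorPow P c), ⊤),
        gl t' (CohB1.genLocus _ (s k.1.down)) = tw (s k.1.down) c (z k • f e k.1.down) := by
    refine Filter.eventually_all.2 fun e => Filter.eventually_all.2 fun k => ?_
    haveI := QCohInv.isQCoh_of_isInvertible (hF e)
    exact eventually_extension hP (s k.1.down) _
  obtain ⟨c₀, hc₀⟩ := Filter.eventually_atTop.1 hext
  refine ⟨m * (c₀ + 1), fun n hn => ?_⟩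
  obtain ⟨c, e, hce, rfl⟩ : ∃ (c : ℕ) (e : Fin m), c₀ ≤ c ∧ n = e + m * (c + 1) := by
    have h1 : c₀ + 1 ≤ n / m := (Nat.le_div_iff_mul_le hm).2 (by rw [Nat.mul_comm]; exact hn)
    obtain ⟨c, hc⟩ : ∃ c, n / m = c + 1 := ⟨n / m - 1, by omega⟩
    exact ⟨c, ⟨n % m, Nat.mod_lt n hm⟩, by omega, by rw [← hc]; exact (Nat.mod_add_div n m).symm⟩
  choose t' ht' using hc₀ c hce e
  let M := CohB1.tensorMod (CohB1.tensorMod (F e) (CohB1.tensorPow P c)) P
  let φ : M ≅ CohB1.tensorMod (CohB1.tensorPow L (e + m * (c + 1))) L' :=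
    Basic.assoc _ _ _ ≪≫
      tensorIso (Basic.comm _ _) (show CohB1.tensorMod (CohB1.tensorPow P c) P ≅ _ from powMul L m (c + 1)) ≪≫
      Basic.assoc _ _ _ ≪≫ Basic.comm _ _ ≪≫
      tensorIso ((powAdd L e (m * (c + 1))).symm) (Iso.refl _)
  let σ : ∀ i, Γ(P, ⊤) := fun i => sv (s i) ⊤
  let T : Idx → ProjUP.Γm M := fun k => tm _ P (t' k) (σ k.1.down)
  let U : Fin N → X.Opens := fun i => CohB1.genLocus _ (s i)
  let G : ∀ i, Γ(M, U i) := fun i =>
    tm _ P (tm (F e) _ (f e i) (powSec (sv (s i) (U i)) c)) (sv (s i) (U i))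
  have hG : ∀ i, IsGen M (U i) (G i) := fun i =>
    isGen_tmul (isGen_tmul (hf e i) (isGen_powSec (isGen_genLocus (s i)) c)) (isGen_genLocus (s i))
  have hT : ∀ k : Idx, gl (T k) (U k.1.down) = z k • G k.1.down := fun k => by
    rw [gl_tmul, ht', twist_eq (a := 1) (e := sv (s k.1.down) (U k.1.down)) (one_smul _ _).symm, one_pow,
      one_smul]
    simp only [σ, G, gl, rs_sv, ← pairM_id, pairM_smul_left]
    rfl
  have hloc1 : ∀ i : Fin N, locus (T ⟨⟨i⟩, none⟩) = U i := fun i => by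
    refine le_antisymm ?_ (le_locus ?_)
    · rw [locus_tmul (Invertible.isInvertible_tensorMod (hF e) (Invertible.isInvertible_tensorPow hP c)) hP]
      refine inf_le_right.trans (le_of_eq ?_)
      exact congrArg (CohB1.genLocus P) (Modules.Free.unitHom_ext (Modules.Free.unitHom_app_one P (σ i)))
    · rw [hT]
      simpa [z] using hG i
  rcases isEmpty_or_nonempty X with hX | hX
  · exact Embed.isRelVeryAmplePn_of_sections q _ (Invertible.isInvertible_tensorMod
      (Invertible.isInvertible_tensorPow hi _) hL') (N := 0) (fun _ => 0) ∅ (fun x => isEmptyElim x)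
      (fun i hi => absurd hi (Set.notMem_empty i)) (fun _ => ⊥) (fun i hi => absurd hi (Set.notMem_empty i))
      (fun i hi => absurd hi (Set.notMem_empty i)) (fun i hi => absurd hi (Set.notMem_empty i))
  haveI : Nonempty Idx := by
    obtain ⟨i, -⟩ := hcov (Classical.arbitrary X)
    exact ⟨⟨⟨i⟩, none⟩⟩
  obtain ⟨N', hN'⟩ : ∃ N', Fintype.card Idx = N' + 1 := ⟨Fintype.card Idx - 1, by
    have := Fintype.card_pos (α := Idx); omega⟩
  let E : Fin (N' + 1) ≃ Idx := ((Fintype.equivFin Idx).trans (finCongr hN')).symm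
  let t : Fin (N' + 1) → ProjUP.Γm (CohB1.tensorMod (CohB1.tensorPow L (e + m * (c + 1))) L') :=
    fun j => φ.hom.app ⊤ (T (E j))
  have hlt : ∀ i : Fin N, locus (t (E.symm (⟨⟨i⟩, none⟩ : Idx))) = U i := fun i => by
    simp only [t, Equiv.apply_symm_apply]
    rw [locus_iso]
    exact hloc1 i
  refine Embed.isRelVeryAmplePn_of_sections q _ (Invertible.isInvertible_tensorMod
      (Invertible.isInvertible_tensorPow hi _) hL') t (Set.range fun i : Fin N => E.symm (⟨⟨i⟩, none⟩ : Idx))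
      (fun x => ?_) ?_ (fun j => V (E j).1.down) (fun j _ => hV _) ?_ ?_
  · obtain ⟨i, hx⟩ := hcov x
    exact ⟨_, ⟨i, rfl⟩, (hlt i).ge hx⟩
  · rintro _ ⟨i, rfl⟩
    rw [hlt i]
    exact hs i
  · rintro _ ⟨i, rfl⟩
    rw [hlt i]
    simp only [Equiv.apply_symm_apply]
    exact hVle i
  · rintro _ ⟨i, rfl⟩
    have key : ∀ (W : Y.Opens), W = V i → ∀ (O : X.Opens), O = U i → ∀ (hO : O ≤ q ⁻¹ᵁ W), ∀ w : Γ(X, O),
        w ∈ Subring.closure (Set.range (q.appLE W O hO).hom ∪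
          {a | ∃ k, gl (t k) O = a • gl (t (E.symm (⟨⟨i⟩, none⟩ : Idx))) O}) := by
      rintro W rfl O rfl hO w
      have hsub : (gens i : Set Γ(X, U i)) ⊆
          {a | ∃ k, gl (t k) (U i) = a • gl (t (E.symm (⟨⟨i⟩, none⟩ : Idx))) (U i)} := fun b hb => by
        refine ⟨E.symm (⟨⟨i⟩, some ⟨b, hb⟩⟩ : Idx), ?_⟩
        have e1 := hT ⟨⟨i⟩, some ⟨b, hb⟩⟩
        have e0 := hT ⟨⟨i⟩, none⟩
        simp only [z, Option.elim_none, Option.elim_some, one_smul] at e0 e1
        simp only [t, Equiv.apply_symm_apply, ← app_gl]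
        rw [e0, e1, Scheme.Modules.Hom.app_smul]
      exact Subring.closure_mono (Set.union_subset_union_right _ hsub) (hgens i w)
    exact key _ (by simp only [Equiv.apply_symm_apply]) _ (hlt i) _

end Groth.Agent.Lib.ProjMor.VeryAmple
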