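import Groth.Agent.Lib.ProjMor.Comp
import Groth.Agent.Lib.HProj.Local

/-!
# Quasi-projective and very ample, locally on the base
-/

noncomputable section

universe u

open CategoryTheory CategoryTheory.Limits AlgebraicGeometry TopologicalSpace

namespace Groth.Agent.Lib.ProjMor.QP

open TensorMod TensorMod.Pullback Ample

variable {X Y Z : Scheme.{u}}

/-- The restriction of a quasi-compact morphism is quasi-compact. -/
theorem quasiCompact_restrict (f : X ⟶ Y) [QuasiCompact f] (V : Y.Opens) : QuasiCompact (f ∣_ V) :=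
  MorphismProperty.of_isPullback (P := @QuasiCompact) (isPullback_morphismRestrict f V).flip inferInstance

theorem isRelAmple_iff_locally_power_veryAmple (f : X ⟶ Y) [LocallyOfFiniteType f] [QuasiCompact f]
    {L : X.Modules} (hL : PicF.IsInvertible L) :
    _root_.RelAmple.IsRelAmple f L ↔
      ∃ (ι : Type u) (V : ι → Y.Opens), (⨆ j, V j) = ⊤ ∧
        ∀ j, ∃ d : ℕ, 0 < d ∧
          _root_.RelAmple.IsRelVeryAmplePn (f ∣_ V j) ((CohB1.tensorPow L d).restrict (f ⁻¹ᵁ V j).ι) := by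
  constructor
  · intro h
    refine ⟨Y.affineOpens, fun V => V.1, top_le_iff.1 fun y _ => ?_, fun V => ?_⟩
    · obtain ⟨V, hV, hyV, -⟩ := exists_isAffineOpen_mem_and_subset (x := y) (U := (⊤ : Y.Opens)) trivial
      exact Opens.mem_iSup.2 ⟨⟨V, hV⟩, hyV⟩
    · obtain ⟨n₀, hn⟩ := Conv.eventually_veryAmple_pow (f ∣_ V.1) (L := L.restrict (f ⁻¹ᵁ V.1).ι) (h.2 V)
      exact ⟨n₀ + 1, n₀.succ_pos,
        Conv.isRelVeryAmplePn_of_iso (Pow.restrictPow (f ⁻¹ᵁ V.1).ι L _).symm (hn _ n₀.le_succ)⟩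
  · rintro ⟨ι, V, hV, h⟩
    refine (RelAmple.isRelAmple_iff_of_openCover f V hV).2 fun j => ?_
    obtain ⟨d, hd, h'⟩ := h j
    haveI := quasiCompact_restrict f (V j)
    have hLj : PicF.IsInvertible (L.restrict (f ⁻¹ᵁ V j).ι) := Invertible.isInvertible_of_iso
      ((Scheme.Modules.restrictFunctorIsoPullback (f ⁻¹ᵁ V j).ι).app L).symm (PicLoc.isInvertible_pullback _ hL)
    exact (RelAmple.isRelAmple_tensorPow_iff (f ∣_ V j) hLj hd).2 (Conv.isRelAmple_of_isRelVeryAmplePn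
      (Conv.isRelVeryAmplePn_of_iso (Pow.restrictPow (f ⁻¹ᵁ V j).ι L d) h'))

theorem isQuasiProjective_of_isHQuasiProjective {f : X ⟶ Y} (h : RelProj.IsHQuasiProjective f) :
    RelProj.IsQuasiProjective f := by
  obtain ⟨n, i, hi, hq, rfl⟩ := h
  haveI := ProjSpace.BaseChange.isProper_toBase (n := n) Y
  exact HProj.QuasiProj.isQuasiProjective_of_immersion _ n i rfl

theorem isHQuasiProjective_of_isAffine [IsAffine Y] {f : X ⟶ Y} (h : RelProj.IsQuasiProjective f) :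
    RelProj.IsHQuasiProjective f := by
  obtain ⟨hft, hqc, L, hL⟩ := h
  haveI := hft
  haveI := hqc
  obtain ⟨n₀, hn⟩ := Conv.eventually_veryAmple_pow f ((RelAmple.isRelAmple_iff_isAmple f).1 hL)
  obtain ⟨r, i, hi, hc, -⟩ := hn n₀ le_rfl
  haveI := ProjSpace.BaseChange.isProper_toBase (n := r) Y
  haveI : QuasiCompact (i ≫ CohB1.ProjSpaceOver.toBase r Y) := by
    rw [show i ≫ CohB1.ProjSpaceOver.toBase r Y = f from hc]; infer_instance
  exact ⟨r, i, hi, QuasiCompact.of_comp i (CohB1.ProjSpaceOver.toBase r Y), hc⟩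

theorem isQuasiProjective_restrict {f : X ⟶ Y} (h : RelProj.IsQuasiProjective f) (V : Y.Opens) :
    RelProj.IsQuasiProjective (f ∣_ V) := by
  obtain ⟨hft, hqc, L, hL⟩ := h
  haveI := hft
  haveI := hqc
  exact ⟨MorphismProperty.of_isPullback (P := @LocallyOfFiniteType) (isPullback_morphismRestrict f V).flip hft,
    quasiCompact_restrict f V, _, RelAmple.isRelAmple_morphismRestrict hL V⟩

theorem isQuasiProjective_restrict_le (f : X ⟶ Y) {V U : Y.Opens} [IsAffine (V : Scheme.{u})] (h : V ≤ U)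
    (hU : RelProj.IsQuasiProjective (f ∣_ U)) : RelProj.IsQuasiProjective (f ∣_ V) := by
  obtain ⟨hft, hqc, L, hL⟩ := hU
  have hsq := HProj.Local.isPullback_restrict_of_le f h
  haveI : QuasiCompact (f ∣_ V) := MorphismProperty.of_isPullback (P := @QuasiCompact) hsq hqc
  let j : (f ⁻¹ᵁ V : Scheme.{u}) ⟶ (f ⁻¹ᵁ U : Scheme.{u}) := X.homOfLE (f.preimage_mono h)
  refine ⟨MorphismProperty.of_isPullback (P := @LocallyOfFiniteType) hsq hft, ‹_›, (pb j).obj L,
    (RelAmple.isRelAmple_iff_isAmple _).2 ?_⟩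
  have hV : IsAffineOpen V := ‹IsAffine (V : Scheme.{u})›
  have hW : IsAffineOpen (U.ι ⁻¹ᵁ V) := by
    refine (U.ι.isAffineOpen_iff_of_isOpenImmersion).1 ?_
    rwa [Scheme.Hom.image_preimage_eq_opensRange_inf, Scheme.Opens.opensRange_ι, inf_eq_right.2 h]
  refine Restrict.isAmple_pb_of_range_eq _ j ?_ (((RelAmple.isRelAmple_iff (f ∣_ U)).1 hL).2 _ hW)
  rw [Scheme.Opens.range_ι]
  ext x
  have hmem : x ∈ (f ∣_ U) ⁻¹ᵁ U.ι ⁻¹ᵁ V ↔ f ((f ⁻¹ᵁ U).ι x) ∈ V := by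
    change U.ι ((f ∣_ U) x) ∈ V ↔ _
    rw [← Scheme.Hom.comp_apply, morphismRestrict_ι, Scheme.Hom.comp_apply]
  rw [SetLike.mem_coe, hmem]
  constructor
  · rintro ⟨y, rfl⟩
    rw [← Scheme.Hom.comp_apply j, Scheme.homOfLE_ι]
    exact y.2
  · intro hx
    exact ⟨⟨(f ⁻¹ᵁ U).ι x, hx⟩, (f ⁻¹ᵁ U).ι.isOpenEmbedding.injective (by
      rw [← Scheme.Hom.comp_apply j, Scheme.homOfLE_ι]; rfl)⟩

/-- Composition of relatively ample modules over a quasi-compact base. -/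
theorem eventually_isRelAmple_comp [CompactSpace Z] (f : X ⟶ Y) (g : Y ⟶ Z) {L : X.Modules} {K : Y.Modules}
    (hL : _root_.RelAmple.IsRelAmple f L) (hK : _root_.RelAmple.IsRelAmple g K) :
    ∃ n₀ : ℕ, 0 < n₀ ∧ ∀ n, n₀ ≤ n →
      _root_.RelAmple.IsRelAmple (f ≫ g) (CohB1.tensorMod L ((pb f).obj (CohB1.tensorPow K n))) := by
  classical
  haveI := ((RelAmple.isRelAmple_iff f).1 hL).1
  haveI := ((RelAmple.isRelAmple_iff g).1 hK).1
  have h : ∀ z : Z, ∃ W : Z.Opens, z ∈ W ∧ IsAffineOpen W ∧ ∃ n₀ : ℕ, ∀ n, n₀ ≤ n →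
      _root_.RelAmple.IsRelAmple ((f ≫ g) ∣_ W)
        ((CohB1.tensorMod L ((pb f).obj (CohB1.tensorPow K n))).restrict ((f ≫ g) ⁻¹ᵁ W).ι) := fun z => by
    obtain ⟨W, hW, hzW, -⟩ := exists_isAffineOpen_mem_and_subset (x := z) (U := (⊤ : Z.Opens)) trivial
    haveI : IsAffine (W : Scheme.{u}) := hW
    let U := g ⁻¹ᵁ W
    have hKU : CohB1.IsAmple ((pb U.ι).obj K) := ((RelAmple.isRelAmple_iff g).1 hK).2 W hW
    obtain ⟨n₀, -, hn⟩ := Comp.eventually_isAmple (f ∣_ U) (RelAmple.isRelAmple_morphismRestrict hL U) hKU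
    refine ⟨W, hzW, hW, n₀, fun n h => ?_⟩
    haveI := quasiCompact_restrict (f ≫ g) W
    let F := f ⁻¹ᵁ U
    refine (RelAmple.isRelAmple_iff_isAmple _).2 (Pow.isAmple_of_iso ?_ (hn n h))
    exact (Basic.tensorIso ((Scheme.Modules.restrictFunctorIsoPullback F.ι).app L)
        ((pb (f ∣_ U)).mapIso (Pow.pullbackPow U.ι K n).symm ≪≫
          (Scheme.Modules.pullbackComp (f ∣_ U) U.ι).app _ ≪≫
          (Scheme.Modules.pullbackCongr (morphismRestrict_ι f U)).app _ ≪≫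
          ((Scheme.Modules.pullbackComp F.ι f).app _).symm) ≪≫
      (pullbackTensorIso F.ι _ _).symm) ≪≫ ((Scheme.Modules.restrictFunctorIsoPullback F.ι).app _).symm
  choose W hzW hW n₀ hn using h
  obtain ⟨T, hT⟩ := isCompact_univ.elim_finite_subcover (fun z => (W z : Set Z))
    (fun z => (W z).isOpen) fun z _ => Set.mem_iUnion.2 ⟨z, hzW z⟩
  refine ⟨T.sup n₀ + 1, Nat.succ_pos _, fun n h => ?_⟩
  refine (RelAmple.isRelAmple_iff_of_openCover (f ≫ g) (fun z : T => W z) ?_).2 fun z => hn z n ?_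
  · refine top_le_iff.1 fun z _ => ?_
    obtain ⟨y, hy, hzy⟩ := Set.mem_iUnion₂.1 (hT (Set.mem_univ z))
    exact Opens.mem_iSup.2 ⟨⟨y, hy⟩, hzy⟩
  · have := Finset.le_sup (f := n₀) z.2
    omega

end Groth.Agent.Lib.ProjMor.QP
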