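import Groth.Agent.Lib.Ample.Basis
import Groth.Agent.H34.UFDExt.Gen
import Groth.Prelude.Def_ProjUP

/-!
# Global sections: where they generate
-/

noncomputable section

universe u

open CategoryTheory AlgebraicGeometry TopologicalSpace Opposite

namespace Groth.Agent.Lib.ProjMor.Sec

open TensorMod TensorMod.Basic TensorMod.Free TensorMod.Dual TensorMod.Gen TensorMod.HomGlue TensorMod.LocIso
  TensorMod.Pullback Ample.GenLocus

variable {X Y : Scheme.{u}} {L M : X.Modules}

/-- A global section, restricted to `U`. -/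
abbrev gl (m : Γ(L, ⊤)) (U : X.Opens) : Γ(L, U) := rs L le_top m

/-- The open where a global section generates. -/
def locus (m : Γ(L, ⊤)) : X.Opens := CohB1.genLocus L (Modules.Free.unitHom L m)

theorem sv_unitHom (m : Γ(L, ⊤)) (U : X.Opens) : sv (Modules.Free.unitHom L m) U = gl m U := by
  rw [← rs_sv _ (le_top : U ≤ ⊤)]
  exact congrArg (rs L le_top) (Modules.Free.unitHom_app_one L m)

theorem isGen_locus (m : Γ(L, ⊤)) : IsGen L (locus m) (gl m (locus m)) := by
  rw [← sv_unitHom]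
  exact Ample.Basis.isGen_genLocus _

theorem le_locus {m : Γ(L, ⊤)} {U : X.Opens} (h : IsGen L U (gl m U)) : U ≤ locus m :=
  le_genLocus (by rwa [sv_unitHom])

theorem locus_inf_eq {U : X.Opens} {e : Γ(L, U)} (he : IsGen L U e) {m : Γ(L, ⊤)} {a : Γ(X, U)}
    (ha : gl m U = a • e) : locus m ⊓ U = X.basicOpen a :=
  genLocus_inf_eq he _ ((sv_unitHom m U).trans ha)

theorem rs_gl {U V : X.Opens} (h : V ≤ U) (m : Γ(L, ⊤)) : rs L h (gl m U) = gl m V := rs_rs L _ _ _

theorem app_gl (φ : L ⟶ M) (m : Γ(L, ⊤)) (U : X.Opens) :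
    φ.app U (gl m U) = gl (φ.app ⊤ m) U :=
  (rs_app φ le_top m).symm

theorem locus_iso (φ : L ≅ M) (m : Γ(L, ⊤)) : locus (φ.hom.app ⊤ m) = locus m := by
  have h : Modules.Free.unitHom M (φ.hom.app ⊤ m) = Modules.Free.unitHom L m ≫ φ.hom :=
    Modules.Free.unitHom_ext ((Modules.Free.unitHom_app_one M _).trans
      (congrArg (φ.hom.app ⊤) (Modules.Free.unitHom_app_one L m)).symm)
  rw [locus, h, genLocus_comp_iso]
  rfl

theorem gl_pullSec (f : Y ⟶ X) (m : Γ(L, ⊤)) (U : X.Opens) :
    gl (ProjUP.pullSec f L m) (f ⁻¹ᵁ U) = unitSec f L (gl m U) :=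
  unitSec_rs f le_top m

theorem locus_pullback (hL : PicF.IsInvertible L) (f : Y ⟶ X) (m : Γ(L, ⊤)) :
    locus (ProjUP.pullSec f L m) = f ⁻¹ᵁ locus m := by
  have h : Modules.Free.unitHom ((pb f).obj L) (ProjUP.pullSec f L m) =
      (PicLoc.pullbackStructureIso f).inv ≫ (pb f).map (Modules.Free.unitHom L m) := by
    refine Modules.Free.unitHom_ext ((Modules.Free.unitHom_app_one _ _).trans ?_)
    exact ((sv_pullback f (Modules.Free.unitHom L m) ⊤).trans
      (congrArg (unitSec f L) (Modules.Free.unitHom_app_one L m))).symm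
  rw [locus]
  exact (congrArg (CohB1.genLocus _) h).trans
    (genLocus_pullback f hL _ (PicLoc.pullbackStructureIso f).symm)

theorem exists_mem_locus {ι : Type*} (hL : PicF.IsInvertible L) {s : ι → Γ(L, ⊤)}
    (hs : ProjUP.GeneratedBy L s) (x : X) : ∃ i, x ∈ locus (s i) := by
  obtain ⟨U, e, hx, he⟩ := isInvertible_iff.1 hL x
  choose a ha using fun i => exists_coord he (gl (s i) U)
  by_contra hc
  push Not at hc
  have hmem : ∀ i, X.presheaf.germ U x hx (a i) ∈ IsLocalRing.maximalIdeal (X.presheaf.stalk x) := fun i h =>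
    hc i ((locus_inf_eq he (ha i)).ge ((X.toRingedSpace.mem_basicOpen (a i) x hx).2 h)).1
  let g : L.presheaf.stalk x := L.presheaf.germ U x hx e
  let 𝔪 := IsLocalRing.maximalIdeal (X.presheaf.stalk x)
  let T := LinearMap.toSpanSingleton (X.presheaf.stalk x) (L.presheaf.stalk x) g
  have hle : Submodule.span (X.presheaf.stalk x)
      (Set.range fun i => (L.presheaf.germ ⊤ x trivial).hom (s i)) ≤ Submodule.map T 𝔪 := by
    rw [Submodule.span_le]
    rintro _ ⟨i, rfl⟩
    refine ⟨_, hmem i, ?_⟩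
    have h1 := congrArg (L.presheaf.germ U x hx) (ha i)
    rw [Modules.StalkModule.germ_smul] at h1
    exact h1.symm.trans (TopCat.Presheaf.germ_res_apply L.presheaf (homOfLE le_top) x hx (s i))
  rw [hs x] at hle
  obtain ⟨c, hc', hcg⟩ := hle (Submodule.mem_top : g ∈ _)
  have hbij := H34.UFDExt.Gen.IsGen.stalk_bijective (M := L) (fun W h => he W h) hx
  have : c = 1 := hbij.1 (by simpa [T, g] using hcg)
  exact (IsLocalRing.maximalIdeal.isMaximal _).ne_top ((Ideal.eq_top_iff_one _).2 (this ▸ hc'))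

end Groth.Agent.Lib.ProjMor.Sec
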