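import Groth.Agent.Lib.ProjMor.Sec
import Groth.Agent.Lib.ProjTilde.Basic
import Mathlib.AlgebraicGeometry.ProjectiveSpectrum.Basic

/-!
# The degree-one sections of `O(1)` and the frames they give
-/

noncomputable section

universe u

open CategoryTheory AlgebraicGeometry TopologicalSpace Opposite HomogeneousLocalization

namespace Groth.Agent.Lib.ProjMor.Frame

open TensorMod TensorMod.Basic TensorMod.Free TensorMod.Dual TensorMod.Gen TensorMod.HomGlue Ample.GenLocus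
  ProjTilde.Frac ProjTilde.Basic Sec

variable {R A : Type u} [CommRing R] [CommRing A] [Algebra R A] (𝒜 : ℕ → Submodule R A) [GradedAlgebra 𝒜]

/-- The section `a / 1` of `O(1)`. -/
def g (a : 𝒜 1) : ProjUP.Γm (Twist.twist 𝒜 1) := Twist.globalOf 𝒜 a

/-- The fraction `b / a` as a function on `D₊(a)`. -/
def fr (a b : 𝒜 1) : Γ(Proj 𝒜, Proj.basicOpen 𝒜 (a : A)) :=
  Proj.awayToSection 𝒜 (a : A) (Away.mk 𝒜 a.2 1 (b : A) (by simp))

variable {𝒜}

/-- Sections of `O(n)` by their values. -/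
theorem sec_ext {n : ℤ} {U : (Proj 𝒜).Opens} {σ τ : Γ(Twist.twist 𝒜 n, U)}
    (h : ∀ x : U, (((show Twist.sectN (𝒜 := 𝒜) n (op U) from σ).1 x : Twist.twistAt 𝒜 n x.1) : Twist.Loc 𝒜 x.1) =
      ((show Twist.sectN (𝒜 := 𝒜) n (op U) from τ).1 x : Twist.twistAt 𝒜 n x.1)) : σ = τ :=
  Subtype.ext (funext fun x => Subtype.ext (h x))

/-- The value of a section of `O(n)`. -/
abbrev value {n : ℤ} {U : (Proj 𝒜).Opens} (σ : Γ(Twist.twist 𝒜 n, U)) (x : U) : Twist.Loc 𝒜 x.1 :=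
  ((show Twist.sectN (𝒜 := 𝒜) n (op U) from σ).1 x : Twist.twistAt 𝒜 n x.1)

theorem value_smul {n : ℤ} {U : (Proj 𝒜).Opens} (r : Γ(Proj 𝒜, U)) (σ : Γ(Twist.twist 𝒜 n, U)) (x : U) :
    value (r • σ) x = ((show Twist.O (𝒜 := 𝒜) (op U) from r).1 x).val * value σ x :=
  Twist.coe_smul_val n x.1 _ _

theorem value_g (a : 𝒜 1) (U : (Proj 𝒜).Opens) (x : U) :
    value (gl (g 𝒜 a) U) x = Localization.mk (a : A) 1 := rfl

theorem value_fr (a b : 𝒜 1) (x : Proj.basicOpen 𝒜 (a : A)) :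
    ((show Twist.O (𝒜 := 𝒜) (op (Proj.basicOpen 𝒜 (a : A))) from fr 𝒜 a b).1 x).val =
      (Localization.mk (b : A) ⟨(a : A) ^ 1, fun h => x.2 (x.1.isPrime.mem_of_pow_mem 1 h)⟩ :
        Twist.Loc 𝒜 x.1) := rfl

theorem g_eq_fr_smul (a b : 𝒜 1) :
    gl (g 𝒜 b) (Proj.basicOpen 𝒜 (a : A)) = fr 𝒜 a b • gl (g 𝒜 a) (Proj.basicOpen 𝒜 (a : A)) := by
  refine sec_ext fun x => Eq.symm ?_
  refine (value_smul _ _ x).trans ?_
  rw [value_fr, value_g]
  refine (Localization.mk_mul _ _ _ _).trans ?_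
  change _ = Localization.mk (b : A) 1
  rw [Localization.mk_eq_mk_iff, Localization.r_iff_exists]
  exact ⟨1, by simp [mul_comm]⟩

theorem isGen_g (a : 𝒜 1) : IsGen (Twist.twist 𝒜 1) (Proj.basicOpen 𝒜 (a : A))
    (gl (g 𝒜 a) (Proj.basicOpen 𝒜 (a : A))) := by
  intro W hW
  have hW' : W ≤ Proj.basicOpen 𝒜 ((1 : A) * (a : A)) := by rwa [one_mul]
  have hne : ∀ x : W, (a : A) ∉ x.1.asHomogeneousIdeal := fun x => hW x.2
  constructor
  · intro r r' h
    refine Subtype.ext (funext fun x => HomogeneousLocalization.val_injective _ ?_)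
    have h1 := congrArg (fun σ => value σ x) h
    simp only [rs_gl] at h1
    rw [value_smul, value_smul, value_g] at h1
    have hu : IsUnit (Localization.mk (a : A) 1 : Twist.Loc 𝒜 x.1) := by
      rw [Localization.mk_one_eq_algebraMap]
      exact IsLocalization.map_units (M := x.1.asHomogeneousIdeal.toIdeal.primeCompl) _ ⟨(a : A), hne x⟩
    exact hu.mul_left_inj.1 h1
  · intro σ
    have hn : (0 : ℤ) + ((1 : ℕ) : ℤ) = 1 + ((0 : ℕ) : ℤ) := by simp
    obtain ⟨r, hr⟩ := ofFun_surjective (mulSec (𝒜 := 𝒜) SetLike.GradedOne.one_mem a.2 hn hW'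
      (twistToTilde (show Twist.sectN (𝒜 := 𝒜) 1 (op W) from σ)))
    refine ⟨r, sec_ext fun x => ?_⟩
    simp only [rs_gl]
    refine (value_smul _ _ x).trans ?_
    have h1 := congrArg (fun τ => val τ x) hr
    simp only [val_mulSec] at h1
    rw [value_g]
    change val (ofFun r) x * _ = _
    rw [h1]
    change (Localization.mk (1 : A) _ * value σ x) * _ = value σ x
    rw [mul_right_comm, Localization.mk_mul]
    rw [show (Localization.mk ((1 : A) * (a : A)) _ : Twist.Loc 𝒜 x.1) = 1 from ?_, one_mul]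
    rw [← Localization.mk_one, Localization.mk_eq_mk_iff, Localization.r_iff_exists]
    exact ⟨1, by simp⟩

theorem basicOpen_le_locus (a : 𝒜 1) : Proj.basicOpen 𝒜 (a : A) ≤ locus (g 𝒜 a) := le_locus (isGen_g a)

/-- Where the `D₊(c)` cover, `a / 1` generates exactly on `D₊(a)`. -/
theorem locus_g (hcov : ∀ x : ProjectiveSpectrum 𝒜, ∃ c : 𝒜 1, (c : A) ∉ x.asHomogeneousIdeal) (a : 𝒜 1) :
    locus (g 𝒜 a) = Proj.basicOpen 𝒜 (a : A) := by
  refine le_antisymm (fun x hx ha => ?_) (basicOpen_le_locus a)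
  obtain ⟨c, hc⟩ := hcov x
  obtain ⟨t, ht⟩ := exists_coord (isGen_locus (g 𝒜 a)) (gl (g 𝒜 c) (locus (g 𝒜 a)))
  have h1 := congrArg (fun σ => value σ ⟨x, hx⟩) ht
  rw [value_smul, value_g, value_g] at h1
  obtain ⟨p, hp⟩ := HomogeneousLocalization.mk_surjective
    ((show Twist.O (𝒜 := 𝒜) (op (locus (g 𝒜 a))) from t).1 ⟨x, hx⟩)
  have h3 := h1.trans (congrArg (fun z => HomogeneousLocalization.val z * _) hp.symm)
  rw [HomogeneousLocalization.val_mk] at h3
  have h2 := h3.trans (Localization.mk_mul _ _ _ _)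
  rw [Localization.mk_eq_mk_iff, Localization.r_iff_exists] at h2
  obtain ⟨w, hw⟩ := h2
  simp only [Submonoid.coe_mul, OneMemClass.coe_one, mul_one, one_mul] at hw
  have : (w : A) * ((p.den : A) * (c : A)) ∈ x.asHomogeneousIdeal.toIdeal := by
    rw [hw]
    exact Ideal.mul_mem_left _ _ (Ideal.mul_mem_left _ _ ha)
  exact (x.isPrime.mem_or_mem this).elim w.2 fun h => (x.isPrime.mem_or_mem h).elim p.den_mem hc

end Groth.Agent.Lib.ProjMor.Frame
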