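import Groth.Agent.Lib.ProjMor.VeryAmple
import Groth.Agent.Lib.ProjMor.Pieces
import Mathlib.AlgebraicGeometry.AffineSpace
import Mathlib.AlgebraicGeometry.QuasiAffine

/-!
# A quasi-affine scheme of finite type embeds in affine space
-/

noncomputable section

universe u

open CategoryTheory CategoryTheory.Limits AlgebraicGeometry TopologicalSpace Opposite

namespace Groth.Agent.Lib.ProjMor.QAff

theorem exists_immersion {X S : Scheme.{u}} (q : X ⟶ S) [LocallyOfFiniteType q] [X.IsQuasiAffine] :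
    ∃ (n : ℕ) (i : X ⟶ 𝔸(ULift.{u} (Fin n); S)), IsImmersion i ∧ i ≫ (𝔸(ULift.{u} (Fin n); S) ↘ S) = q := by
  classical
  have h : ∀ x : X, ∃ (f : Γ(X, ⊤)) (V : S.Opens), IsAffineOpen V ∧ IsAffineOpen (X.basicOpen f) ∧
      x ∈ X.basicOpen f ∧ X.basicOpen f ≤ q ⁻¹ᵁ V := fun x => by
    obtain ⟨V, hV, hxV, -⟩ := exists_isAffineOpen_mem_and_subset (x := q x) (U := (⊤ : S.Opens)) trivial
    obtain ⟨_, ⟨_, ⟨f, hf, rfl⟩, rfl⟩, hxf, hle⟩ := (Scheme.IsQuasiAffine.isBasis_basicOpen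
      X).exists_subset_of_mem_open (show x ∈ ((q ⁻¹ᵁ V : X.Opens) : Set X) from hxV) (q ⁻¹ᵁ V).isOpen
    exact ⟨f, V, hV, hf, hxf, hle⟩
  choose f V hV hf hxf hle using h
  obtain ⟨T, hT⟩ := isCompact_univ.elim_finite_subcover (fun x => (X.basicOpen (f x) : Set X))
    (fun x => (X.basicOpen (f x)).isOpen) fun x _ => Set.mem_iUnion.2 ⟨x, hxf x⟩
  choose gens hgens using fun x : T => VeryAmple.exists_gens q (hf x) (hV (x : X)) (hle x)
  have hloc : ∀ x : T, ∀ b : gens x, ∃ (a : Γ(X, ⊤)) (k : ℕ),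
      (b : Γ(X, X.basicOpen (f x))) * X.presheaf.map (homOfLE (X.basicOpen_le _)).op (f x) ^ k =
        X.presheaf.map (homOfLE (X.basicOpen_le _)).op a := fun x b => by
    have := isLocalization_basicOpen_of_qcqs (X := X) (U := ⊤) isCompact_univ isQuasiSeparated_univ (f x)
    obtain ⟨k, a, h⟩ := IsLocalization.Away.surj (f x : Γ(X, ⊤)) (b : Γ(X, X.basicOpen (f x)))
    refine ⟨a, k, ?_⟩
    exact h
  choose num k hnum using hloc
  let E₀ : Type u := Σ x : T, Option (gens x)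
  let E : Fin (Fintype.card E₀) ≃ E₀ := (Fintype.equivFin E₀).symm
  let val : E₀ → Γ(X, ⊤) := fun e => e.2.elim (f e.1) fun b => num e.1 b
  let n := Fintype.card E₀
  let i : X ⟶ 𝔸(ULift.{u} (Fin n); S) := AffineSpace.homOfVector q fun j => val (E j.down)
  let π : 𝔸(ULift.{u} (Fin n); S) ⟶ S := 𝔸(ULift.{u} (Fin n); S) ↘ S
  have hiπ : i ≫ π = q := AffineSpace.homOfVector_over _ _
  let co : E₀ → Γ(𝔸(ULift.{u} (Fin n); S), ⊤) := fun e => AffineSpace.coord S ⟨E.symm e⟩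
  have hco : ∀ e, i.appTop (co e) = val e := fun e => by
    refine (AffineSpace.homOfVector_appTop_coord _ _ _).trans ?_
    simp
  let O : T → (𝔸(ULift.{u} (Fin n); S) : Scheme.{u}).Opens := fun x => π ⁻¹ᵁ V x
  let D : T → (𝔸(ULift.{u} (Fin n); S) : Scheme.{u}).Opens := fun x =>
    O x ⊓ Scheme.basicOpen _ (co ⟨x, none⟩)
  have hDaff : ∀ x, IsAffineOpen (D x) := fun x => by
    have h := ((hV (x : X)).preimage π).basicOpen
      (Scheme.Hom.appLE (𝟙 _) ⊤ (O x) le_top (co ⟨x, none⟩))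
    rwa [show Scheme.Hom.appLE (𝟙 _) ⊤ (O x) le_top (co ⟨x, none⟩) =
      (𝔸(ULift.{u} (Fin n); S) : Scheme.{u}).presheaf.map (homOfLE le_top).op (co ⟨x, none⟩) from by
        simp [Scheme.Hom.appLE], Scheme.basicOpen_res] at h
  have hpre : ∀ x, i ⁻¹ᵁ D x = X.basicOpen (f x) := fun x => by
    refine (Scheme.Hom.preimage_inf i).trans ?_
    rw [show i ⁻¹ᵁ O x = q ⁻¹ᵁ V x from congrArg (fun φ : X ⟶ S => φ ⁻¹ᵁ V x) hiπ,
      Scheme.preimage_basicOpen_top, hco]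
    exact inf_eq_right.2 (hle x)
  refine ⟨n, i, Pieces.isImmersion_of_pieces i D (fun y => ?_) fun x => ?_, hiπ⟩
  · obtain ⟨z, hz, hyz⟩ := Set.mem_iUnion₂.1 (hT (Set.mem_univ y))
    exact ⟨⟨z, hz⟩, (hpre ⟨z, hz⟩).ge hyz⟩
  · refine Pieces.isClosedImmersion_restrict i (hDaff x) (hf x) (hpre x) ?_
    intro w
    let φ := (i.appLE (D x) (X.basicOpen (f x)) (hpre x).ge).hom
    let ρ := (X.presheaf.map (homOfLE (X.basicOpen_le (f x))).op).hom
    let r := ((𝔸(ULift.{u} (Fin n); S) : Scheme.{u}).presheaf.map (homOfLE (le_top : D x ≤ ⊤)).op).hom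
    have hr : ∀ z, φ (r z) = ρ (i.appTop z) := fun z => by
      change _ = ((i.appTop ≫ X.presheaf.map _).hom) z
      rw [show φ (r z) = ((𝔸(ULift.{u} (Fin n); S) : Scheme.{u}).presheaf.map (homOfLE (le_top : D x ≤ ⊤)).op ≫
        i.appLE (D x) (X.basicOpen (f x)) (hpre x).ge) z from rfl, Scheme.Hom.map_appLE]
      rfl
    have hu : IsUnit (r (co ⟨x, none⟩)) := by
      have h := (RingedSpace.isUnit_res_basicOpen _ (co ⟨x, none⟩)).map
        ((𝔸(ULift.{u} (Fin n); S) : Scheme.{u}).presheaf.map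
          (homOfLE (inf_le_right : D x ≤ Scheme.basicOpen _ (co ⟨x, none⟩))).op).hom
      have e : r = ((𝔸(ULift.{u} (Fin n); S) : Scheme.{u}).presheaf.map
          (homOfLE (le_top : Scheme.basicOpen _ (co ⟨x, none⟩) ≤ ⊤)).op ≫
          (𝔸(ULift.{u} (Fin n); S) : Scheme.{u}).presheaf.map
          (homOfLE (inf_le_right : D x ≤ Scheme.basicOpen _ (co ⟨x, none⟩))).op).hom := by
        rw [← Functor.map_comp]; rfl
      rw [e]
      exact h
    have hinv : φ (↑hu.unit⁻¹) * ρ (f x) = 1 := by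
      have h1 : φ (r (co ⟨x, none⟩)) = ρ (f x) := (hr _).trans (congrArg ρ (hco _))
      rw [← h1, ← map_mul, hu.val_inv_mul, map_one]
    refine (Subring.closure_le (t := φ.range)).2 ?_ (hgens x w)
    rintro a (⟨s, rfl⟩ | ha)
    · refine ⟨π.appLE (V x) (D x) inf_le_left s, ?_⟩
      change (π.appLE _ _ _ ≫ i.appLE _ _ _) s = _
      rw [Scheme.Hom.appLE_comp_appLE]
      simp only [hiπ]
    · refine ⟨r (co ⟨x, some ⟨a, ha⟩⟩) * (↑hu.unit⁻¹) ^ k x ⟨a, ha⟩, ?_⟩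
      have h2 : a * ρ (f x) ^ k x ⟨a, ha⟩ = ρ (num x ⟨a, ha⟩) := hnum x ⟨a, ha⟩
      rw [map_mul, map_pow, hr, hco]
      change ρ (num x ⟨a, ha⟩) * _ = a
      rw [← h2, mul_assoc, ← mul_pow, mul_comm (ρ (f x)), hinv, one_pow, mul_one]

end Groth.Agent.Lib.ProjMor.QAff
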