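import Groth.Agent.Lib.ProjMor.Rep
import Mathlib.LinearAlgebra.SymmetricAlgebra.Basic

/-!
# Morphisms to `Proj` of an algebra generated in degree one
-/

noncomputable section

universe u

open CategoryTheory AlgebraicGeometry TopologicalSpace Opposite

namespace Groth.Agent.Lib.ProjMor.Main

open TensorMod TensorMod.Basic TensorMod.Free TensorMod.Dual TensorMod.Gen TensorMod.HomGlue TensorMod.Pullback
  Ample.GenLocus Chow.PointMap Sec Frame Char Rep

variable {R A : Type u} [CommRing R] [CommRing A] [Algebra R A] {𝒜 : ℕ → Submodule R A} [GradedAlgebra 𝒜]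
variable {M : Type u} [AddCommGroup M] [Module R M] {ι : M →ₗ[R] A} (hι : ∀ m, ι m ∈ 𝒜 1)
  (hadj : Algebra.adjoin R (Set.range ι) = ⊤)

/-- The scalars on an open. -/
def scalOn {X : Scheme.{u}} (q : X ⟶ Spec (CommRingCat.of R)) (U : X.Opens) : R →+* Γ(X, U) :=
  (X.presheaf.map (homOfLE le_top).op).hom.comp (ProjUP.toGlobal q)

theorem toSpecHom_scalOn {X : Scheme.{u}} (q : X ⟶ Spec (CommRingCat.of R)) (U : X.Opens) :
    toSpecHom (U.topIso.inv.hom.comp (scalOn q U)) = U.ι ≫ q := by
  conv_rhs => rw [← toSpecHom_homOf q, comp_toSpecHom]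
  congr 1
  rw [scalOn, ← RingHom.comp_assoc]
  congr 1
  have e : X.presheaf.map (homOfLE (le_top : U ≤ ⊤)).op ≫ U.topIso.inv = U.ι.appTop := by
    rw [Scheme.Hom.appTop, Scheme.Opens.ι_app, Scheme.Opens.topIso_inv]
    exact (X.presheaf.map_comp _ _).symm.trans (congrArg X.presheaf.map (Subsingleton.elim _ _))
  exact congrArg CommRingCat.Hom.hom e

include hι hadj in
theorem adjoin_degOne : Algebra.adjoin R (𝒜 1 : Set A) = ⊤ :=
  top_le_iff.1 (hadj ▸ Algebra.adjoin_mono (by rintro _ ⟨m, rfl⟩; exact hι m))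

include hι hadj in
theorem exists_preimage (a : 𝒜 1) : ∃ m, ι m = (a : A) := by
  classical
  have key : ∀ x : A, (DirectSum.decompose 𝒜 x 1 : A) ∈ LinearMap.range ι ∧
      (x ∈ 𝒜 1 → x ∈ LinearMap.range ι) := by
    intro x
    suffices h : (DirectSum.decompose 𝒜 x 1 : A) ∈ LinearMap.range ι from
      ⟨h, fun hx => by rwa [DirectSum.decompose_of_mem_same 𝒜 hx] at h⟩
    have hx : x ∈ Submodule.span R (Submonoid.closure (Set.range ι) : Set A) := by
      rw [← Algebra.adjoin_eq_span, hadj]; trivial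
    induction hx using Submodule.span_induction with
    | mem y hy =>
      have : ∃ k, y ∈ 𝒜 k ∧ (k = 1 → y ∈ LinearMap.range ι) ∧ (k = 0 → y = 1) := by
        induction hy using Submonoid.closure_induction with
        | mem z hz =>
          obtain ⟨m, rfl⟩ := hz
          exact ⟨1, hι m, fun _ => ⟨m, rfl⟩, fun h => absurd h one_ne_zero⟩
        | one => exact ⟨0, SetLike.GradedOne.one_mem, fun h => absurd h zero_ne_one, fun _ => rfl⟩
        | mul p q _ _ hp hq =>
          obtain ⟨k, hk, hk1, hk0⟩ := hp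
          obtain ⟨l, hl, hl1, hl0⟩ := hq
          refine ⟨k + l, SetLike.mul_mem_graded hk hl, fun h => ?_, fun h => ?_⟩
          · rcases Nat.eq_zero_or_pos k with h0 | h0
            · rw [hk0 h0, one_mul]; exact hl1 (by omega)
            · rw [hl0 (by omega), mul_one]; exact hk1 (by omega)
          · rw [hk0 (by omega), hl0 (by omega), mul_one]
      obtain ⟨k, hk, hk1, -⟩ := this
      by_cases h : k = 1
      · subst h
        rw [DirectSum.decompose_of_mem_same 𝒜 hk]
        exact hk1 rfl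
      · rw [DirectSum.decompose_of_mem_ne 𝒜 hk h]
        exact zero_mem _
    | zero => simp
    | add p q _ _ hp hq => simpa [DirectSum.decompose_add] using add_mem hp hq
    | smul r p _ hp =>
      rw [DirectSum.decompose_smul, DirectSum.smul_apply, SetLike.val_smul]
      exact Submodule.smul_mem _ r hp
  exact (key a).2 a.2

include hι hadj in
theorem cover (x : ProjectiveSpectrum 𝒜) : ∃ c : 𝒜 1, (c : A) ∉ x.asHomogeneousIdeal := by
  classical
  by_contra hc
  push Not at hc
  refine x.not_irrelevant_le fun z hz => ?_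
  have key : ∀ y : A, ∀ n, 0 < n → (DirectSum.decompose 𝒜 y n : A) ∈ x.asHomogeneousIdeal.toIdeal := by
    intro y
    have hy : y ∈ Submodule.span R (Submonoid.closure (Set.range ι) : Set A) := by
      rw [← Algebra.adjoin_eq_span, hadj]; trivial
    induction hy using Submodule.span_induction with
    | mem w hw =>
      have : ∃ k, w ∈ 𝒜 k ∧ (0 < k → w ∈ x.asHomogeneousIdeal.toIdeal) := by
        induction hw using Submonoid.closure_induction with
        | mem z hz =>
          obtain ⟨m, rfl⟩ := hz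
          exact ⟨1, hι m, fun _ => hc ⟨ι m, hι m⟩⟩
        | one => exact ⟨0, SetLike.GradedOne.one_mem, fun h => absurd h (lt_irrefl 0)⟩
        | mul p q _ _ hp hq =>
          obtain ⟨k, hk, hk'⟩ := hp
          obtain ⟨l, hl, hl'⟩ := hq
          refine ⟨k + l, SetLike.mul_mem_graded hk hl, fun h => ?_⟩
          rcases Nat.eq_zero_or_pos k with h0 | h0
          · exact Ideal.mul_mem_left _ _ (hl' (by omega))
          · exact Ideal.mul_mem_right _ _ (hk' h0)
      obtain ⟨k, hk, hk'⟩ := this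
      intro n hn
      by_cases h : k = n
      · subst h
        rw [DirectSum.decompose_of_mem_same 𝒜 hk]
        exact hk' hn
      · rw [DirectSum.decompose_of_mem_ne 𝒜 hk h]
        exact zero_mem _
    | zero => intro n _; simp
    | add p q _ _ hp hq => intro n hn; simpa [DirectSum.decompose_add] using add_mem (hp n hn) (hq n hn)
    | smul r p _ hp =>
      intro n hn
      rw [DirectSum.decompose_smul, DirectSum.smul_apply, SetLike.val_smul, Algebra.smul_def]
      exact Ideal.mul_mem_left _ _ (hp n hn)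
  change z ∈ x.asHomogeneousIdeal.toIdeal
  rw [← DirectSum.sum_support_decompose 𝒜 z]
  refine Ideal.sum_mem _ fun n _ => ?_
  rcases Nat.eq_zero_or_pos n with h0 | h0
  · subst h0
    have h1 := (HomogeneousIdeal.mem_irrelevant_iff _ _).mp hz
    rw [GradedRing.proj_apply] at h1
    rw [h1]
    exact zero_mem _
  · exact key z n h0

include hι hadj in
/-- A generating linear family of sections gives a morphism to `Proj`. -/
theorem exists_map
    (hlift : ∀ (B : Type u) [CommRing B] [Algebra R B] (c : M →ₗ[R] B), ∃ φ : A →ₐ[R] B, ∀ m, φ (ι m) = c m)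
    {X : Scheme.{u}} (q : X ⟶ Spec (CommRingCat.of R)) {L : X.Modules} (hL : PicF.IsInvertible L)
    (v : M →+ ProjUP.Γm L) (hv : ∀ (a : R) (m : M), v (a • m) = ProjUP.toGlobal q a • v m)
    (hgen : ProjUP.GeneratedBy L v) :
    ∃ (r : X ⟶ Proj 𝒜) (_ : r ≫ str 𝒜 = q) (τ : (Scheme.Modules.pullback r).obj (Twist.twist 𝒜 1) ≅ L),
      ∀ m : M, τ.hom.app ⊤ (ProjUP.pullSec r (Twist.twist 𝒜 1) (g 𝒜 ⟨ι m, hι m⟩)) = v m := by
  have lift : ∀ (U : X.Opens) (e : Γ(L, U)), IsGen L U e → ∃ φ : A →+* Γ(X, U),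
      φ.comp (algebraMap R A) = scalOn q U ∧ ∀ m, gl (v m) U = φ (ι m) • e := by
    intro U e he
    let := (scalOn q U).toAlgebra
    choose c hc using fun m => exists_coord he (gl (v m) U)
    have hinj : ∀ {a b : Γ(X, U)}, a • e = b • e → a = b := fun {a b} h =>
      (he U le_rfl).1 (by simpa only [rs_self] using h)
    let cl : M →ₗ[R] Γ(X, U) :=
      { toFun := c
        map_add' := fun x y => hinj (by
          rw [add_smul, ← hc, ← hc, ← hc, map_add]
          exact rs_add L le_top (v x) (v y))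
        map_smul' := fun r x => hinj (by
          rw [← hc, hv, RingHom.id_apply, Algebra.smul_def, mul_smul, ← hc]
          exact rs_smul L le_top (ProjUP.toGlobal q r) (v x)) }
    obtain ⟨φ, hφ⟩ := hlift Γ(X, U) cl
    refine ⟨φ.toRingHom, φ.comp_algebraMap, fun m => ?_⟩
    change gl (v m) U = φ (ι m) • e
    rw [hφ m]
    exact hc m
  have hloc : ∀ x : X, ∃ m, x ∈ locus (v m) := exists_mem_locus hL hgen
  choose pre hpre using exists_preimage hι hadj
  let w : 𝒜 1 → ProjUP.Γm L := fun a => v (pre a)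
  have hw : ∀ m, w ⟨ι m, hι m⟩ = v m := fun m => by
    refine sections_ext_cover (fun m' => locus (v m')) L (V := ⊤)
      (fun x _ => Opens.mem_iSup.2 (hloc x)) fun m' => ?_
    obtain ⟨φ, -, hφ⟩ := lift _ _ (isGen_locus (v m'))
    have h : gl (w ⟨ι m, hι m⟩) (locus (v m')) = gl (v m) (locus (v m')) := by
      rw [hφ, hφ m, hpre]
    have h2 := congrArg (rs L (inf_le_right : ⊤ ⊓ locus (v m') ≤ locus (v m'))) h
    rwa [rs_gl, rs_gl] at h2
  have hwcov : ∀ x : X, ∃ a, x ∈ locus (w a) := fun x => by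
    obtain ⟨m, hm⟩ := hloc x
    exact ⟨⟨ι m, hι m⟩, by rwa [hw m]⟩
  obtain ⟨r, hr⟩ := exists_isMapFor (adjoin_degOne hι hadj) q w hwcov fun a => by
    obtain ⟨φ, h0, h1⟩ := lift _ _ (isGen_locus (w a))
    refine ⟨φ, ?_, fun b => (h1 (pre b)).trans (by rw [hpre])⟩
    rw [RingHom.comp_assoc, h0]
    exact toSpecHom_scalOn q _
  obtain ⟨τ, hτ⟩ := exists_iso_of_isMapFor hr hwcov
  exact ⟨r, hr.over, τ, fun m => (hτ _).trans (hw m)⟩

include hι hadj in
/-- Two morphisms with matching pullbacks of `O(1)` and its sections agree. -/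
theorem eq_of_iso {X : Scheme.{u}} {r r' : X ⟶ Proj 𝒜} (hrr' : r ≫ str 𝒜 = r' ≫ str 𝒜)
    (τ : (Scheme.Modules.pullback r).obj (Twist.twist 𝒜 1) ≅ (Scheme.Modules.pullback r').obj (Twist.twist 𝒜 1))
    (hτ : ∀ m, τ.hom.app ⊤ (ProjUP.pullSec r (Twist.twist 𝒜 1) (g 𝒜 ⟨ι m, hι m⟩)) =
      ProjUP.pullSec r' (Twist.twist 𝒜 1) (g 𝒜 ⟨ι m, hι m⟩)) : r = r' := by
  have hcov := cover hι hadj
  have hinv : PicF.IsInvertible (Twist.twist 𝒜 1) :=
    Groth.Agent.Lib.ProjTilde.Invertible.twist_isInvertible_of_cover (fun x => by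
      obtain ⟨c, hc⟩ := hcov x
      exact ⟨c, c.2, hc⟩) 1
  let v : 𝒜 1 → ProjUP.Γm ((Scheme.Modules.pullback r').obj (Twist.twist 𝒜 1)) :=
    fun a => ProjUP.pullSec r' (Twist.twist 𝒜 1) (g 𝒜 a)
  have h' : IsMapFor _ (r' ≫ str 𝒜) v r' := isMapFor_of_iso hcov rfl (Iso.refl _) fun a => rfl
  have h : IsMapFor _ (r' ≫ str 𝒜) v r := isMapFor_of_iso hcov hrr' τ fun a => by
    obtain ⟨m, hm⟩ := exists_preimage hι hadj a
    have : (⟨ι m, hι m⟩ : 𝒜 1) = a := Subtype.ext hm
    subst this
    exact hτ m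
  refine IsMapFor.eq (adjoin_degOne hι hadj) (fun x => ?_) h h'
  obtain ⟨c, hc⟩ := hcov (r' x)
  refine ⟨c, ?_⟩
  rw [locus_pullback hinv, locus_g hcov]
  exact hc

end Groth.Agent.Lib.ProjMor.Main
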