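import Groth.Agent.Lib.ProjMor.Conv

/-!
# An invertible module on an affine scheme of finite type is very ample
-/

noncomputable section

universe u

open CategoryTheory CategoryTheory.Limits AlgebraicGeometry TopologicalSpace Opposite

namespace Groth.Agent.Lib.ProjMor.Affine

open TensorMod TensorMod.Basic TensorMod.Free TensorMod.Dual TensorMod.Gen TensorMod.LocIso TensorMod.HomGlue TensorMod.Pullback
  Ample.GenLocus Sec

variable {X S : Scheme.{u}}

theorem isRelVeryAmplePn_of_isAffine [IsAffine X] [IsAffine S] (q : X ⟶ S) [LocallyOfFiniteType q]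
    {L : X.Modules} (hL : PicF.IsInvertible L) : _root_.RelAmple.IsRelVeryAmplePn q L := by
  classical
  haveI := QCohInv.isQCoh_of_isInvertible hL
  have h : ∀ x : X, ∃ (f : Γ(X, ⊤)) (y : Γ(L, ⊤)), x ∈ X.basicOpen f ∧
      IsGen L (X.basicOpen f) (gl y (X.basicOpen f)) := fun x => by
    obtain ⟨U, e, hx, he⟩ := isInvertible_iff.1 hL x
    obtain ⟨f, hfU, hxf⟩ := (isAffineOpen_top X).exists_basicOpen_le (V := U) ⟨x, hx⟩ trivial
    obtain ⟨m, y, hy⟩ := (QCoh.Localizing.localizes_of_isAffineOpen L (isAffineOpen_top X) f).ext' (rs L hfU e)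
    refine ⟨f, y, hxf, ?_⟩
    rw [show gl y (X.basicOpen f) = _ from hy]
    exact IsGen_smul_isUnit (he.res hfU) ((RingedSpace.isUnit_res_basicOpen _ f).pow m)
  choose f y hxf hy using h
  obtain ⟨T, hT⟩ := isCompact_univ.elim_finite_subcover (fun x => (X.basicOpen (f x) : Set X))
    (fun x => (X.basicOpen (f x)).isOpen) fun x _ => Set.mem_iUnion.2 ⟨x, hxf x⟩
  obtain ⟨gens, hgens⟩ := VeryAmple.exists_gens q (isAffineOpen_top X) (isAffineOpen_top S) le_top
  let c : T → Option (Option gens) → Γ(X, ⊤) := fun x j =>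
    j.elim (f x) fun j' => j'.elim 1 fun b => b.1 * f x
  let E₀ : Type u := (T × Option (Option gens))
  rcases isEmpty_or_nonempty X with hX | hX
  · exact Embed.isRelVeryAmplePn_of_sections q L hL (N := 0) (fun _ => 0) ∅ (fun x => isEmptyElim x)
      (fun i hi => absurd hi (Set.notMem_empty i)) (fun _ => ⊤) (fun i hi => absurd hi (Set.notMem_empty i))
      (fun i hi => absurd hi (Set.notMem_empty i)) (fun i hi => absurd hi (Set.notMem_empty i))
  haveI : Nonempty E₀ := by
    obtain ⟨x, hx, -⟩ := Set.mem_iUnion₂.1 (hT (Set.mem_univ (Classical.arbitrary X)))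
    exact ⟨(⟨x, hx⟩, none)⟩
  obtain ⟨N, hN⟩ : ∃ N, Fintype.card E₀ = N + 1 := ⟨Fintype.card E₀ - 1, by
    have := Fintype.card_pos (α := E₀); omega⟩
  let E : Fin (N + 1) ≃ E₀ := ((Fintype.equivFin E₀).trans (finCongr hN)).symm
  let t : Fin (N + 1) → ProjUP.Γm L := fun j => c (E j).1 (E j).2 • y (E j).1
  have hgl : ∀ j (W : X.Opens), gl (t j) W = rf le_top (c (E j).1 (E j).2) • gl (y (E j).1) W :=
    fun j W => rs_smul L le_top _ _
  have hloc : ∀ x : T, locus (t (E.symm ((x, none) : E₀))) = X.basicOpen (f x) := fun x => by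
    have hy' : IsGen L (locus (y (x : X))) (gl (y (x : X)) _) := isGen_locus _
    have h1 : locus (t (E.symm ((x, none) : E₀))) ⊓ locus (y (x : X)) =
        X.basicOpen (rf (le_top : locus (y (x : X)) ≤ ⊤) (c x none)) := by
      refine locus_inf_eq hy' ?_
      rw [hgl, Equiv.apply_symm_apply]
    have h2 : X.basicOpen (rf (le_top : locus (y (x : X)) ≤ ⊤) (c x none)) =
        locus (y (x : X)) ⊓ X.basicOpen (f x) := X.basicOpen_res _ _
    have h3 : X.basicOpen (f x) ≤ locus (y (x : X)) := le_locus (hy x)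
    have h4 : locus (t (E.symm ((x, none) : E₀))) ≤ locus (y (x : X)) := by
      intro z hz
      by_contra hzy
      obtain ⟨U, e, hzU, he⟩ := isInvertible_iff.1 hL z
      obtain ⟨a, ha⟩ := exists_coord he (gl (y (x : X)) U)
      have hz1 : z ∈ X.basicOpen (rf (le_top : U ≤ ⊤) (c x none) * a) := by
        rw [← locus_inf_eq he (m := t (E.symm ((x, none) : E₀))) (a := _ * a)
          (by rw [hgl, Equiv.apply_symm_apply, ha, smul_smul])]
        exact ⟨hz, hzU⟩
      rw [Scheme.basicOpen_mul] at hz1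
      exact hzy ((locus_inf_eq he ha).ge hz1.2).1
    calc locus (t (E.symm ((x, none) : E₀))) =
          X.basicOpen (rf (le_top : locus (y (x : X)) ≤ ⊤) (c x none)) := by
          rw [← h1, inf_eq_left.2 h4]
      _ = X.basicOpen (f x) := by rw [h2, inf_eq_right.2 h3]
  refine Embed.isRelVeryAmplePn_of_sections q L hL t (Set.range fun x : T => E.symm ((x, none) : E₀))
    (fun x => ?_) ?_ (fun _ => ⊤) (fun _ _ => isAffineOpen_top S) (fun _ _ => le_top) ?_
  · obtain ⟨z, hz, hxz⟩ := Set.mem_iUnion₂.1 (hT (Set.mem_univ x))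
    exact ⟨_, ⟨⟨z, hz⟩, rfl⟩, (hloc ⟨z, hz⟩).ge hxz⟩
  · rintro _ ⟨x, rfl⟩
    rw [hloc x]
    exact (isAffineOpen_top X).basicOpen _
  · rintro _ ⟨x, rfl⟩
    have key : ∀ (O : X.Opens), O = X.basicOpen (f x) → ∀ w : Γ(X, O), w ∈ Subring.closure
        (Set.range (q.appLE ⊤ O le_top).hom ∪
          {a | ∃ k, gl (t k) O = a • gl (t (E.symm ((x, none) : E₀))) O}) := by
      rintro O rfl w
      let ρ := (X.presheaf.map (homOfLE (le_top : X.basicOpen (f x) ≤ ⊤)).op).hom
      let C := Subring.closure (Set.range (q.appLE ⊤ (X.basicOpen (f x)) le_top).hom ∪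
          {a | ∃ k, gl (t k) (X.basicOpen (f x)) =
            a • gl (t (E.symm ((x, none) : E₀))) (X.basicOpen (f x))})
      have hu : IsUnit (ρ (f x)) := RingedSpace.isUnit_res_basicOpen _ (f x)
      have hA : ∀ a, ρ a ∈ C := fun a => by
        have hle : Subring.closure (Set.range (q.appLE ⊤ ⊤ le_top).hom ∪ (gens : Set Γ(X, ⊤))) ≤ C.comap ρ := by
          refine Subring.closure_le.2 ?_
          rintro z (⟨s, rfl⟩ | hz)
          · refine Subring.subset_closure (Or.inl ⟨s, ?_⟩)
            exact DFunLike.congr_fun (congrArg CommRingCat.Hom.hom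
              (Scheme.Hom.appLE_map (f := q) (U := ⊤) (e := le_top) (homOfLE le_top).op).symm) s
          · refine Subring.subset_closure (Or.inr ⟨E.symm ((x, some (some ⟨z, hz⟩)) : E₀), ?_⟩)
            rw [hgl, hgl, Equiv.apply_symm_apply, Equiv.apply_symm_apply, smul_smul]
            congr 1
            exact map_mul ρ z (f x)
        exact hle (hgens a)
      have hinv : (↑hu.unit⁻¹ : Γ(X, X.basicOpen (f x))) ∈ C := by
        refine Subring.subset_closure (Or.inr ⟨E.symm ((x, some none) : E₀), ?_⟩)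
        rw [hgl, hgl, Equiv.apply_symm_apply, Equiv.apply_symm_apply, smul_smul]
        congr 1
        exact (map_one ρ).trans hu.val_inv_mul.symm
      haveI := (isAffineOpen_top X).isLocalization_basicOpen (f x)
      obtain ⟨n, a, ha⟩ := IsLocalization.Away.surj (f x) w
      have ha' : w * ρ (f x) ^ n = ρ a := ha
      have hw : w = ρ a * (↑hu.unit⁻¹ : Γ(X, X.basicOpen (f x))) ^ n := by
        rw [← ha', mul_assoc, ← mul_pow, hu.mul_val_inv, one_pow, mul_one]
      rw [hw]
      exact C.mul_mem (hA a) (C.pow_mem hinv n)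
    exact key _ (hloc x)

end Groth.Agent.Lib.ProjMor.Affine
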