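import Groth.Agent.Lib.ProjMor.Conv
import Groth.Agent.Lib.Ample.RelAmple

/-!
# Relative ampleness composes with an ample module of the base
-/

noncomputable section

universe u

open CategoryTheory CategoryTheory.Limits AlgebraicGeometry TopologicalSpace Opposite

namespace Groth.Agent.Lib.ProjMor.Comp

open TensorMod TensorMod.Basic TensorMod.Gen TensorMod.Pullback Ample.GenLocus Ample.Pow Ample.Restrict

variable {X Y : Scheme.{u}}

theorem genLocus_powHom_zero {L : X.Modules} (s : Coh.structureModule X ⟶ L) :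
    CohB1.genLocus (CohB1.tensorPow L 0) (SecTwist.powHom s 0) = ⊤ := genLocus_id

theorem genLocus_powHom_inf {L : X.Modules} (hL : PicF.IsInvertible L) (s : Coh.structureModule X ⟶ L) (n : ℕ) :
    CohB1.genLocus L s ⊓ CohB1.genLocus (CohB1.tensorPow L n) (SecTwist.powHom s n) = CohB1.genLocus L s := by
  rcases Nat.eq_zero_or_pos n with rfl | hn
  · rw [genLocus_powHom_zero, inf_top_eq]
  · rw [genLocus_powHom hL s n hn, inf_idem]

/-- If `L` is `f`-ample and `K` is ample on the base, `L ⊗ f^* K^n` is ample for large `n`. -/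
theorem eventually_isAmple (f : X ⟶ Y) {L : X.Modules} {K : Y.Modules} (hL : _root_.RelAmple.IsRelAmple f L)
    (hK : CohB1.IsAmple K) :
    ∃ n₀ : ℕ, 0 < n₀ ∧ ∀ n, n₀ ≤ n → CohB1.IsAmple (CohB1.tensorMod L ((pb f).obj (CohB1.tensorPow K n))) := by
  classical
  obtain ⟨hqc, hA⟩ := (Ample.RelAmple.isRelAmple_iff f).1 hL
  haveI := hqc
  have hLi := Ample.RelAmple.isInvertible_of_isRelAmple hL
  obtain ⟨hKi, hYc, -⟩ := Ample.Pow.isAmple_iff.1 hK
  haveI := hYc
  haveI := Ample.Pullback.quasiSeparatedSpace_of_isAmple hK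
  haveI : CompactSpace X := QuasiCompact.compactSpace_of_compactSpace f
  haveI : QuasiSeparatedSpace X := by
    haveI : ∀ V : Y.affineOpens, QuasiSeparatedSpace (f ⁻¹ᵁ V.1 : Scheme.{u}) := fun V =>
      Ample.Pullback.quasiSeparatedSpace_of_isAmple (hA V.1 V.2)
    refine QuasiSeparatedSpace.of_isOpenCover (U := fun V : Y.affineOpens => f ⁻¹ᵁ V.1) ?_ (fun V => ?_) fun V => ?_
    · rw [IsOpenCover, eq_top_iff]
      intro x _
      obtain ⟨V, hV, hxV, -⟩ := exists_isAffineOpen_mem_and_subset (x := f x) (U := (⊤ : Y.Opens)) trivial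
      exact Opens.mem_iSup.2 ⟨⟨V, hV⟩, hxV⟩
    · refine IsRetrocompact_iff_isSpectralMap_subtypeVal.mpr ?_
      haveI : QuasiCompact (f ⁻¹ᵁ V.1).ι := by
        haveI : QuasiCompact V.1.ι := by
          haveI : IsAffine (V.1 : Scheme.{u}) := V.2
          exact quasiCompact_of_compactSpace _
        exact MorphismProperty.of_isPullback (P := @QuasiCompact) (isPullback_morphismRestrict f V.1) ‹_›
      exact (f ⁻¹ᵁ V.1).ι.isSpectralMap
    · exact (isQuasiSeparated_iff_quasiSeparatedSpace _ (f ⁻¹ᵁ V.1).isOpen).2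
        (inferInstanceAs (QuasiSeparatedSpace (f ⁻¹ᵁ V.1 : Scheme.{u})))
  obtain ⟨a, ha, N, σ, hσ, hcov⟩ := Ample.GG.exists_common_pow hK
  let K' := (pb f).obj K
  have hK' : PicF.IsInvertible K' := PicLoc.isInvertible_pullback f hKi
  let P := CohB1.tensorPow K' a
  have hP : PicF.IsInvertible P := Invertible.isInvertible_tensorPow hK' a
  let h : Fin N → (Coh.structureModule X ⟶ P) := fun i =>
    ((PicLoc.pullbackStructureIso f).symm.hom ≫ (pb f).map (σ i)) ≫ (pullbackPow f K a).hom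
  have hh : ∀ i, CohB1.genLocus P (h i) = f ⁻¹ᵁ CohB1.genLocus _ (σ i) := fun i => by
    rw [genLocus_comp_iso, genLocus_pullback f (Invertible.isInvertible_tensorPow hKi a)]
  have hx : ∀ x : X, ∃ i : Fin N, ∃ b : ℕ, 0 < b ∧ ∃ c : ℕ,
      ∃ t : Coh.structureModule X ⟶ CohB1.tensorMod (CohB1.tensorMod (CohB1.tensorPow L b) (CohB1.tensorPow P c)) P,
        x ∈ CohB1.genLocus _ t ∧ IsAffineOpen (CohB1.genLocus _ t) ∧ CohB1.genLocus _ t ≤ CohB1.genLocus P (h i) :=
    fun x => by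
    obtain ⟨i, hi⟩ := hcov (f x)
    let G := CohB1.genLocus P (h i)
    have hG : CohB1.IsAmple ((pb G.ι).obj L) :=
      isAmple_pb_of_range_eq (f ⁻¹ᵁ CohB1.genLocus _ (σ i)).ι G.ι (by simp [G, hh]) (hA _ (hσ i))
    obtain ⟨b, hb, s, hxs, hs⟩ := (Ample.Pow.isAmple_iff.1 hG).2.2 ⟨x, (hh i).ge hi⟩
    let e₀ := (pullbackPow G.ι L b).symm ≪≫
      ((Scheme.Modules.restrictFunctorIsoPullback G.ι).app (CohB1.tensorPow L b)).symm
    obtain ⟨c, -, t, ht⟩ := exists_sec_extend (Invertible.isInvertible_tensorPow hLi b) hP (h i) (s ≫ e₀.hom)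
    replace ht := ht.trans (congrArg (G.ι ''ᵁ ·) (genLocus_comp_iso s e₀))
    refine ⟨i, b, hb, c, t, ?_, ?_, ?_⟩
    · rw [ht]; exact ⟨⟨x, (hh i).ge hi⟩, hxs, rfl⟩
    · rw [ht]; exact hs.image_of_isOpenImmersion G.ι
    · rw [ht]; exact G.ι_image_le _
  choose i b hb c t hxt hta htG using hx
  obtain ⟨T, hT⟩ := isCompact_univ.elim_finite_subcover (fun x => (CohB1.genLocus _ (t x) : Set X))
    (fun x => (CohB1.genLocus _ (t x)).isOpen) fun x _ => Set.mem_iUnion.2 ⟨x, hxt x⟩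
  refine ⟨T.sup (fun y => a * (c y + 1)) + 1, Nat.succ_pos _, fun n hn => ?_⟩
  refine Ample.Pow.isAmple_iff.2 ⟨Invertible.isInvertible_tensorMod hLi
    (PicLoc.isInvertible_pullback f (Invertible.isInvertible_tensorPow hKi n)), inferInstance, fun x => ?_⟩
  obtain ⟨y, hy, hxy⟩ := Set.mem_iUnion₂.1 (hT (Set.mem_univ x))
  have hle : a * (c y + 1) ≤ n := by
    have := Finset.le_sup (f := fun y => a * (c y + 1)) hy
    omega
  obtain ⟨j, hj⟩ : ∃ j, n * b y = a * (c y + 1) + j :=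
    ⟨n * b y - a * (c y + 1), (Nat.add_sub_cancel' (hle.trans (Nat.le_mul_of_pos_right _ (hb y)))).symm⟩
  have hinv : PicF.IsInvertible
      (CohB1.tensorMod (CohB1.tensorMod (CohB1.tensorPow L (b y)) (CohB1.tensorPow P (c y))) P) :=
    Invertible.isInvertible_tensorMod (Invertible.isInvertible_tensorMod
      (Invertible.isInvertible_tensorPow hLi _) (Invertible.isInvertible_tensorPow hP _)) hP
  let e : CohB1.tensorMod (CohB1.tensorPow (CohB1.tensorMod (CohB1.tensorMod (CohB1.tensorPow L (b y))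
      (CohB1.tensorPow P (c y))) P) a) (CohB1.tensorPow P j) ≅
      CohB1.tensorPow (CohB1.tensorMod L ((pb f).obj (CohB1.tensorPow K n))) (b y * a) :=
    tensorIso (powIso (Basic.assoc _ _ _ ≪≫
        tensorIso (Iso.refl _) (show CohB1.tensorMod (CohB1.tensorPow P (c y)) P ≅ _ from powMul K' a (c y + 1))) a ≪≫
        powTensor _ _ a ≪≫ tensorIso (powMul L (b y) a) (powMul K' (a * (c y + 1)) a)) (powMul K' a j) ≪≫
      Basic.assoc _ _ _ ≪≫
      tensorIso (Iso.refl _) ((powAdd K' _ _).symm ≪≫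
        powCongr K' (show a * (c y + 1) * a + a * j = n * (b y * a) by rw [← mul_assoc, hj]; ring) ≪≫
        (powMul K' n (b y * a)).symm ≪≫ powIso (pullbackPow f K n).symm (b y * a)) ≪≫
      (powTensor L _ (b y * a)).symm
  refine Ample.Pow.AffineAt.mk (Nat.mul_pos (hb y) ha) e
    (SecTwist.tmulHom (SecTwist.powHom (t y) a) (SecTwist.powHom (h (i y)) j)) ?_ ?_ <;>
    rw [genLocus_tmulHom (Invertible.isInvertible_tensorPow hinv a) (Invertible.isInvertible_tensorPow hP j),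
      genLocus_powHom hinv (t y) a ha, ← inf_eq_left.2 (htG y), inf_assoc, genLocus_powHom_inf hP,
      inf_eq_left.2 (htG y)]
  · exact hxy
  · exact hta y

/-- Quasi-projective over a base with an ample module: embeds in projective space over it. -/
theorem exists_immersion (f : X ⟶ Y) [LocallyOfFiniteType f] {L : X.Modules} {K : Y.Modules}
    (hL : _root_.RelAmple.IsRelAmple f L) (hK : CohB1.IsAmple K) :
    ∃ (r : ℕ) (i : X ⟶ CohB1.ProjSpaceOver r Y), IsImmersion i ∧ i ≫ CohB1.ProjSpaceOver.toBase r Y = f := by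
  obtain ⟨n₀, -, hn⟩ := eventually_isAmple f hL hK
  obtain ⟨m₀, hm⟩ := Conv.eventually_veryAmple_pow f (hn n₀ le_rfl)
  obtain ⟨r, i, hi, hc, -⟩ := hm m₀ le_rfl
  exact ⟨r, i, hi, hc⟩

end Groth.Agent.Lib.ProjMor.Comp
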