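import Groth.Agent.Lib.ProjMor.Poly
import Groth.Agent.Lib.ProjMor.Embed
import Groth.Agent.Lib.CohDelta.Units
import Groth.Agent.Lib.Ample.GenLocus
import Groth.Agent.Lib.ProjMor.Sec

/-!
Linear substitutions of the coordinates of projective space, and morphisms given by sections.
-/

noncomputable section
set_option autoImplicit false
set_option linter.style.haveILetI false
universe u

open CategoryTheory CategoryTheory.Limits AlgebraicGeometry TopologicalSpace Opposite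
open Groth.Agent.Lib.ProjMor Groth.Agent.Lib.ProjMor.Sec

namespace Groth.Agent.Lib.ProjMor.LinSub

variable {n : ℕ} {R : Type u} [CommRing R] {X Y : Scheme.{u}}

local notation "O1" => Twist.twistProjSpace n R 1

/-- The morphism `r` is given by the sections `s` of `L`. -/
def IsBy (r : X ⟶ CohB1.ProjSpace n R) (L : X.Modules) (s : Fin (n + 1) → ProjUP.Γm L) : Prop :=
  ∃ τ : (Scheme.Modules.pullback r).obj O1 ≅ L,
    ∀ i, τ.hom.app ⊤ (ProjUP.pullSec r O1 (ProjUP.coord n R i)) = s i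

theorem isBy_self (r : X ⟶ CohB1.ProjSpace n R) :
    IsBy r ((Scheme.Modules.pullback r).obj O1) fun i => ProjUP.pullSec r O1 (ProjUP.coord n R i) :=
  ⟨Iso.refl _, fun _ => rfl⟩

theorem IsBy.eq {r r' : X ⟶ CohB1.ProjSpace n R} {L : X.Modules} {s : Fin (n + 1) → ProjUP.Γm L}
    (hr : r ≫ CohB1.ProjSpace.toSpec n R = r' ≫ CohB1.ProjSpace.toSpec n R) (h : IsBy r L s)
    (h' : IsBy r' L s) : r = r' := by
  obtain ⟨τ, hτ⟩ := h
  obtain ⟨τ', hτ'⟩ := h'
  refine Poly.eq_of_iso n R r r' hr (τ ≪≫ τ'.symm) fun i => ?_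
  show τ'.inv.app ⊤ (τ.hom.app ⊤ _) = _
  rw [hτ i, ← hτ' i]
  exact congr(($(τ'.hom_inv_id)).app ⊤ _)

theorem IsBy.map {r : X ⟶ CohB1.ProjSpace n R} {L M : X.Modules} {s : Fin (n + 1) → ProjUP.Γm L}
    (h : IsBy r L s) (e : L ≅ M) {s' : Fin (n + 1) → ProjUP.Γm M}
    (hs : ∀ i, e.hom.app ⊤ (s i) = s' i) : IsBy r M s' := by
  obtain ⟨τ, hτ⟩ := h
  refine ⟨τ ≪≫ e, fun i => ?_⟩
  show e.hom.app ⊤ (τ.hom.app ⊤ _) = _
  rw [hτ i, hs i]

theorem IsBy.comp {r : X ⟶ CohB1.ProjSpace n R} {L : X.Modules} {s : Fin (n + 1) → ProjUP.Γm L}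
    (h : IsBy r L s) (g : Y ⟶ X) :
    IsBy (g ≫ r) ((Scheme.Modules.pullback g).obj L) fun i => ProjUP.pullSec g L (s i) := by
  obtain ⟨τ, hτ⟩ := h
  refine ⟨((Scheme.Modules.pullbackComp g r).app O1).symm ≪≫ (Scheme.Modules.pullback g).mapIso τ,
    fun i => ?_⟩
  show ((Scheme.Modules.pullback g).map τ.hom).app ⊤
    (((Scheme.Modules.pullbackComp g r).inv.app O1).app ⊤
      (ProjUP.pullSec (g ≫ r) O1 (ProjUP.coord n R i))) = _
  have h1 : ProjUP.pullSec g _ (ProjUP.pullSec r O1 (ProjUP.coord n R i)) =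
      ((Scheme.Modules.pullbackComp g r).inv.app O1).app ⊤
        (ProjUP.pullSec (g ≫ r) O1 (ProjUP.coord n R i)) :=
    CohDelta.Units.eta_comp g r O1 ⊤ (ProjUP.coord n R i)
  rw [← h1]
  beta_reduce
  rw [← hτ i]
  exact CohDelta.Units.eta_map g τ.hom ⊤ (ProjUP.pullSec r O1 (ProjUP.coord n R i))

theorem isBy_id : IsBy (𝟙 (CohB1.ProjSpace n R)) O1 (ProjUP.coord n R) :=
  ⟨(Scheme.Modules.pullbackId _).app O1, fun i => CohDelta.Units.eta_id O1 ⊤ (ProjUP.coord n R i)⟩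

/-- The sections of the linear substitution by the matrix `M`. -/
def sub {L : X.Modules} (q : X ⟶ Spec (CommRingCat.of R)) (M : Matrix (Fin (n + 1)) (Fin (n + 1)) R)
    (s : Fin (n + 1) → ProjUP.Γm L) (j : Fin (n + 1)) : ProjUP.Γm L :=
  ∑ i, ProjUP.toGlobal q (M i j) • s i

theorem sub_mul {L : X.Modules} (q : X ⟶ Spec (CommRingCat.of R))
    (A B : Matrix (Fin (n + 1)) (Fin (n + 1)) R) (s : Fin (n + 1) → ProjUP.Γm L) :
    sub q B (sub q A s) = sub q (A * B) s := by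
  funext j
  simp only [sub, Finset.smul_sum, smul_smul, Matrix.mul_apply, map_sum, Finset.sum_smul, map_mul]
  rw [Finset.sum_comm]
  exact Finset.sum_congr rfl fun i _ => Finset.sum_congr rfl fun l _ => by rw [mul_comm]

theorem sub_one {L : X.Modules} (q : X ⟶ Spec (CommRingCat.of R))
    (s : Fin (n + 1) → ProjUP.Γm L) : sub q 1 s = s := by
  funext j
  rw [sub, Finset.sum_eq_single j]
  · rw [Matrix.one_apply_eq, map_one, one_smul]
  · intro i _ hi
    rw [Matrix.one_apply_ne hi, map_zero, zero_smul]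
  · simp

/-- If `σ` is given by a substitution of the coordinates, composing with it substitutes sections. -/
theorem IsBy.comp_sub {r : X ⟶ CohB1.ProjSpace n R} {L : X.Modules} {s : Fin (n + 1) → ProjUP.Γm L}
    (h : IsBy r L s) {σ : CohB1.ProjSpace n R ⟶ CohB1.ProjSpace n R}
    {M : Matrix (Fin (n + 1)) (Fin (n + 1)) R}
    (hσ : IsBy σ O1 (sub (CohB1.ProjSpace.toSpec n R) M (ProjUP.coord n R))) :
    IsBy (r ≫ σ) L (sub (r ≫ CohB1.ProjSpace.toSpec n R) M s) := by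
  obtain ⟨τ, hτ⟩ := h
  refine (hσ.comp r).map τ fun j => ?_
  simp only [sub]
  have h1 : ProjUP.pullSec r O1 (∑ i, ProjUP.toGlobal (CohB1.ProjSpace.toSpec n R) (M i j) •
      ProjUP.coord n R i) = ∑ i, ProjUP.toGlobal (r ≫ CohB1.ProjSpace.toSpec n R) (M i j) •
      ProjUP.pullSec r O1 (ProjUP.coord n R i) := by
    refine (map_sum (((Scheme.Modules.pullbackPushforwardAdjunction r).unit.app O1).val.app
      (op ⊤)).hom _ _).trans (Finset.sum_congr rfl fun i _ => ?_)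
    exact Ample.GenLocus.unitSec_smul r (ProjUP.toGlobal (CohB1.ProjSpace.toSpec n R) (M i j))
      (ProjUP.coord n R i)
  rw [h1, map_sum]
  refine Finset.sum_congr rfl fun i _ => ?_
  rw [Scheme.Modules.Hom.app_smul, hτ i]

/-- An invertible matrix gives an automorphism of projective space. -/
theorem exists_sub_iso {M N : Matrix (Fin (n + 1)) (Fin (n + 1)) R} (hMN : M * N = 1) (hNM : N * M = 1) :
    ∃ σ : CohB1.ProjSpace n R ≅ CohB1.ProjSpace n R,
      σ.hom ≫ CohB1.ProjSpace.toSpec n R = CohB1.ProjSpace.toSpec n R ∧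
      IsBy σ.hom O1 (sub (CohB1.ProjSpace.toSpec n R) M (ProjUP.coord n R)) := by
  let q := CohB1.ProjSpace.toSpec n R
  have hinv : PicF.IsInvertible O1 :=
    ProjTilde.Invertible.twist_isInvertible_of_cover (fun y => by
      obtain ⟨c, hc⟩ := Main.cover (Poly.lin_mem n R) (Poly.adjoin_lin n R) y
      exact ⟨c, c.2, hc⟩) 1
  have hgen : ProjUP.GeneratedBy O1 (ProjUP.coord n R) := by
    refine Embed.generatedBy_of_locus _ fun x => ?_
    obtain ⟨i, hi⟩ := Opens.mem_iSup.mp ((ProjSpace.Basic.iSup_basicOpen_X_eq_top n R).ge (trivial : x ∈ ⊤))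
    exact ⟨i, Frame.basicOpen_le_locus (𝒜 := CohB1.polyGrading n R)
      ⟨MvPolynomial.X i, MvPolynomial.isHomogeneous_X R i⟩ hi⟩
  have mk : ∀ {A B : Matrix (Fin (n + 1)) (Fin (n + 1)) R}, A * B = 1 →
      ∃ σ : CohB1.ProjSpace n R ⟶ CohB1.ProjSpace n R, σ ≫ q = q ∧
        IsBy σ O1 (sub q A (ProjUP.coord n R)) := by
    intro A B hAB
    obtain ⟨σ, hσ, τ, hτ⟩ := Poly.exists_map n R q O1 hinv (sub q A (ProjUP.coord n R)) fun x => by
      refine top_le_iff.1 ((hgen x).ge.trans (Submodule.span_le.2 ?_))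
      rintro _ ⟨i, rfl⟩
      have e := congrFun ((sub_mul q A B (ProjUP.coord n R)).trans
        (by rw [hAB, sub_one] : _ = ProjUP.coord n R)) i
      show ((O1).presheaf.germ ⊤ x trivial).hom (ProjUP.coord n R i) ∈ _
      rw [← e]
      show ((O1).presheaf.germ ⊤ x trivial).hom (∑ l, _) ∈ _
      rw [map_sum]
      refine Submodule.sum_mem _ fun l _ => ?_
      refine Set.mem_of_eq_of_mem (Modules.StalkModule.germ_smul (M := O1) (U := ⊤) (x := x) trivial _ _)
        (Submodule.smul_mem _ _ (Submodule.subset_span ⟨l, rfl⟩))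
    exact ⟨σ, hσ, τ, hτ⟩
  obtain ⟨σ, hσq, hσ⟩ := mk hMN
  obtain ⟨σ', hσq', hσ'⟩ := mk hNM
  have key : ∀ {a b : CohB1.ProjSpace n R ⟶ CohB1.ProjSpace n R}
      {A B : Matrix (Fin (n + 1)) (Fin (n + 1)) R}, a ≫ q = q → b ≫ q = q →
      IsBy a O1 (sub q A (ProjUP.coord n R)) → IsBy b O1 (sub q B (ProjUP.coord n R)) →
      A * B = 1 → a ≫ b = 𝟙 _ := by
    intro a b A B ha hb hA hB hAB
    have h := hA.comp_sub hB
    rw [ha, sub_mul, hAB, sub_one] at h
    exact h.eq (by rw [Category.assoc, hb, ha, Category.id_comp]) isBy_id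
  exact ⟨⟨σ, σ', key hσq hσq' hσ hσ' hMN, key hσq' hσq hσ' hσ hNM⟩, hσq, hσ⟩

end Groth.Agent.Lib.ProjMor.LinSub
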