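import Groth.Agent.Lib.Kaehler.LocFree
import Groth.Agent.Lib.TensorMod.Gen
import Groth.Agent.Lib.TensorMod.QCohInv
import Groth.Agent.H81.ProjSpan

/-!
# Invertible sheaves on affine schemes and projective modules of rank one
-/

noncomputable section

universe u

open CategoryTheory CategoryTheory.Limits AlgebraicGeometry TopologicalSpace Opposite

namespace Groth.Agent.Lib.ProjMor.InvTilde

open TensorMod TensorMod.Basic TensorMod.Gen

variable {R : CommRingCat.{u}}

abbrev D (f : R) : (Spec R).Opens := PrimeSpectrum.basicOpen f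

theorem isInvertible_of_projective (M : ModuleCat.{u} R) [Module.Finite R M] [Module.Projective R M]
    (h : ∀ p : PrimeSpectrum R, Module.rankAtStalk M p = 1) : PicF.IsInvertible (tilde M) := fun p => by
  have := Module.finitePresentation_of_projective R M
  have : Module.Free (Localization.AtPrime p.asIdeal) (LocalizedModule p.asIdeal.primeCompl M) := by
    rw [← Module.mem_freeLocus, Module.freeLocus_eq_univ]
    trivial
  obtain ⟨r, hr, hr', hrk⟩ := Module.FinitePresentation.exists_free_localizedModule_powers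
    p.asIdeal.primeCompl (LocalizedModule.mkLinearMap p.asIdeal.primeCompl M)
    (Localization.AtPrime p.asIdeal)
  let S := Localization.Away r
  let φ : R ⟶ CommRingCat.of S := CommRingCat.ofHom (algebraMap R S)
  let L := LocalizedModule (Submonoid.powers r) M
  haveI : Module.Finite S L := Module.Finite.of_isLocalizedModule (Submonoid.powers r)
    (LocalizedModule.mkLinearMap (Submonoid.powers r) M)
  haveI : Nontrivial S :=
    (IsLocalization.Away.lift r (S := S) (IsLocalization.map_units (Localization.AtPrime p.asIdeal)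
      (⟨r, hr⟩ : p.asIdeal.primeCompl))).domain_nontrivial
  have hrk1 : Module.finrank S L = 1 := hrk.trans (h p)
  let e : (ModuleCat.extendScalars (algebraMap R S)).obj M ≃ₗ[S] L :=
    (FlatCx.BaseChange.extEquiv S M).trans
      (IsLocalizedModule.isBaseChange (Submonoid.powers r) S
        (LocalizedModule.mkLinearMap (Submonoid.powers r) M)).equiv
  let b : Module.Basis (Fin 1) S ((ModuleCat.extendScalars (algebraMap R S)).obj M) :=
    ((Module.finBasisOfFinrankEq S L hrk1)).map e.symm
  let i := (Scheme.Modules.restrictFunctorIsoPullback (Spec.map φ)).app (tilde M) ≪≫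
    (QCoh.Pullback.pullbackTildeIso φ).app M ≪≫ Kaehler.LocFree.tildeFreeIso (R := CommRingCat.of S) b
  have hmem : p ∈ (Spec.map φ).opensRange := by
    change p ∈ Set.range (PrimeSpectrum.comap (algebraMap R S))
    rw [PrimeSpectrum.localization_away_comap_range S r]
    exact hr
  obtain ⟨j⟩ := Kaehler.LocFree.free_nhd_of_chart (Spec.map φ) i
  exact ⟨_, hmem, ⟨j ≪≫ coproductUniqueIso fun _ : Fin 1 => Coh.structureModule _⟩⟩

theorem rank_one_of_isInvertible (M : ModuleCat.{u} R) (h : PicF.IsInvertible (tilde M)) :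
    Module.Finite R M ∧ Module.Projective R M ∧ ∀ p : PrimeSpectrum R, Module.rankAtStalk M p = 1 := by
  let S : Set R := {f | ∃ e : Γ(tilde M, D f), IsGen (tilde M) (D f) e}
  have hS : Ideal.span S = ⊤ := by
    rw [← PrimeSpectrum.iSup_basicOpen_eq_top_iff' (R := R), eq_top_iff]
    intro x _
    obtain ⟨U, e, hxU, he⟩ := isInvertible_iff.1 h x
    obtain ⟨_, ⟨_, ⟨f, rfl⟩, rfl⟩, hxf, hfU⟩ :=
      PrimeSpectrum.isBasis_basic_opens.exists_subset_of_mem_open hxU U.2
    exact TopologicalSpace.Opens.mem_iSup.2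
      ⟨f, TopologicalSpace.Opens.mem_iSup.2 ⟨⟨_, he.res (show D f ≤ U from hfU)⟩, hxf⟩⟩
  have hbij : ∀ g : S, ∃ e : Γ(tilde M, D g.1),
      Function.Bijective fun a : Γ(Spec R, D g.1) => a • e := fun g => by
    obtain ⟨e, he⟩ := g.2
    refine ⟨e, ?_⟩
    have h1 := he (D g.1) le_rfl
    have h2 : Dual.rs (tilde M) (le_refl (D g.1)) e = e := by
      change (tilde M).presheaf.map (𝟙 (op (D g.1))) e = e
      rw [CategoryTheory.Functor.map_id]; rfl
    rwa [h2] at h1
  choose e he using hbij
  let eq : ∀ g : S, Γ(Spec R, D g.1) ≃ₗ[Γ(Spec R, D g.1)] Γ(tilde M, D g.1) := fun g =>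
    LinearEquiv.ofBijective (LinearMap.toSpanSingleton _ _ (e g)) (he g)
  have := fun g : S => Module.Free.of_equiv (eq g)
  have := fun g : S => Module.Finite.equiv (eq g)
  let F : ∀ g : S, M →ₗ[R] Γ(tilde M, D g.1) := fun g => (tilde.toOpen M (D g.1)).hom
  have hF : ∀ g : S, IsLocalizedModule.Away g.1 (F g) := fun g =>
    inferInstanceAs (IsLocalizedModule.Away g.1 (tilde.toOpen M (D g.1)).hom)
  obtain ⟨hfin, hproj⟩ := Groth.Agent.H81.ProjSpan.finite_and_projective S hS
    (Rₚ := fun g : S => Γ(Spec R, D g.1)) F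
  refine ⟨hfin, hproj, fun p => ?_⟩
  obtain ⟨g, hg, hpg⟩ : ∃ g ∈ S, g ∉ p.asIdeal := by
    by_contra hc
    push Not at hc
    exact p.2.ne_top (top_le_iff.1 (hS ▸ Ideal.span_le.2 hc))
  let T := Γ(Spec R, D g)
  obtain ⟨q, hq⟩ : ∃ q : PrimeSpectrum T, PrimeSpectrum.comap (algebraMap R T) q = p := by
    change p ∈ Set.range (PrimeSpectrum.comap (algebraMap R T))
    rw [PrimeSpectrum.localization_away_comap_range T g]
    exact hpg
  haveI : Nontrivial T := ⟨⟨0, 1, fun h01 => q.2.ne_top ((Ideal.eq_top_iff_one _).2 (h01 ▸ q.asIdeal.zero_mem))⟩⟩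
  haveI := hF ⟨g, hg⟩
  have hbc : IsBaseChange T (F ⟨g, hg⟩) := IsLocalizedModule.isBaseChange (Submonoid.powers g) T _
  rw [← hq, ← Module.rankAtStalk_isBaseChange hbc, ← Module.rankAtStalk_eq_of_equiv (eq ⟨g, hg⟩),
    Module.rankAtStalk_self]
  rfl

end Groth.Agent.Lib.ProjMor.InvTilde
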