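import Groth.Agent.Lib.ProjMor.Frame
import Groth.Agent.Lib.HProj.Pt

/-!
# Morphisms to `Proj` described by sections of an invertible module
-/

noncomputable section

universe u

open CategoryTheory AlgebraicGeometry TopologicalSpace Opposite HomogeneousLocalization

namespace Groth.Agent.Lib.ProjMor.Char

open TensorMod TensorMod.Basic TensorMod.Free TensorMod.Dual TensorMod.Gen TensorMod.HomGlue TensorMod.Pullback
  Ample.GenLocus Chow.PointMap HProj.Pt Sec Frame

variable {R A : Type u} [CommRing R] [CommRing A] [Algebra R A] (𝒜 : ℕ → Submodule R A) [GradedAlgebra 𝒜]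

/-- The structure morphism to `Spec R`. -/
def str : Proj 𝒜 ⟶ Spec (CommRingCat.of R) :=
  Proj.toSpecZero 𝒜 ≫ Spec.map (CommRingCat.ofHom (algebraMap R (𝒜 0)))

/-- The scalars in `A_(a)`. -/
def scal (a : A) : R →+* Away 𝒜 a :=
  (fromZeroRingHom 𝒜 (Submonoid.powers a)).comp (algebraMap R (𝒜 0))

variable {𝒜}

/-- If `A` is generated by degree one, a map out of `A_(a)` is determined by scalars and the `b / a`. -/
theorem away_hom_ext (hgen : Algebra.adjoin R (𝒜 1 : Set A) = ⊤) {a : A} (ha : a ∈ 𝒜 1) {B : Type*}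
    [CommRing B] {φ ψ : Away 𝒜 a →+* B} (h0 : φ.comp (scal 𝒜 a) = ψ.comp (scal 𝒜 a))
    (h1 : ∀ (b : A) (hb : b ∈ 𝒜 1), φ (Away.mk 𝒜 ha 1 b (by simpa using hb)) =
      ψ (Away.mk 𝒜 ha 1 b (by simpa using hb))) : φ = ψ := by
  classical
  let agree : ℕ → A → Prop := fun n b =>
    ∀ hb : b ∈ 𝒜 (n • 1), φ (Away.mk 𝒜 ha n b hb) = ψ (Away.mk 𝒜 ha n b hb)
  have hmul : ∀ {k l : ℕ} {b c : A}, b ∈ 𝒜 k → c ∈ 𝒜 l → agree k b → agree l c → agree (k + l) (b * c) := by
    intro k l b c hb hc h h' hbc
    have hb' : b ∈ 𝒜 (k • 1) := by simpa using hb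
    have hc' : c ∈ 𝒜 (l • 1) := by simpa using hc
    have e : Away.mk 𝒜 ha (k + l) (b * c) hbc = Away.mk 𝒜 ha k b hb' * Away.mk 𝒜 ha l c hc' := by
      apply HomogeneousLocalization.val_injective
      rw [HomogeneousLocalization.val_mul, Away.val_mk, Away.val_mk, Away.val_mk, Localization.mk_mul]
      exact congrArg (Localization.mk _) (Subtype.ext (pow_add a k l))
    rw [e, map_mul, map_mul, h hb', h' hc']
  have hone : agree 0 1 := by
    intro h
    have e : Away.mk 𝒜 ha 0 (1 : A) h = 1 := by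
      apply HomogeneousLocalization.val_injective
      rw [Away.val_mk, HomogeneousLocalization.val_one, ← Localization.mk_one]
      exact congrArg (Localization.mk _) (Subtype.ext (pow_zero a))
    rw [e, map_one, map_one]
  have key : ∀ x : A, ∀ n, agree n (DirectSum.decompose 𝒜 x n : A) := by
    intro x
    have hx : x ∈ Submodule.span R (Submonoid.closure (𝒜 1 : Set A) : Set A) := by
      rw [← Algebra.adjoin_eq_span, hgen]; trivial
    induction hx using Submodule.span_induction with
    | mem y hy =>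
      have : ∃ k, y ∈ 𝒜 k ∧ agree k y := by
        induction hy using Submonoid.closure_induction with
        | mem z hz => exact ⟨1, hz, fun _ => h1 z hz⟩
        | one => exact ⟨0, SetLike.GradedOne.one_mem, hone⟩
        | mul p q _ _ hp hq =>
          obtain ⟨k, hk, hk'⟩ := hp
          obtain ⟨l, hl, hl'⟩ := hq
          exact ⟨k + l, SetLike.mul_mem_graded hk hl, hmul hk hl hk' hl'⟩
      obtain ⟨k, hk, hk'⟩ := this
      intro n
      by_cases hn : k = n
      · subst hn
        rwa [DirectSum.decompose_of_mem_same 𝒜 hk]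
      · rw [DirectSum.decompose_of_mem_ne 𝒜 hk hn]
        intro h
        have e : Away.mk 𝒜 ha n (0 : A) h = 0 := by
          apply HomogeneousLocalization.val_injective
          rw [Away.val_mk, HomogeneousLocalization.val_zero, Localization.mk_zero]
        rw [e, map_zero, map_zero]
    | zero =>
      intro n h
      have e : Away.mk 𝒜 ha n (DirectSum.decompose 𝒜 (0 : A) n : A) h = 0 := by
        apply HomogeneousLocalization.val_injective
        rw [Away.val_mk, HomogeneousLocalization.val_zero, DirectSum.decompose_zero, DirectSum.zero_apply,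
          ZeroMemClass.coe_zero, Localization.mk_zero]
      rw [e, map_zero, map_zero]
    | add p q _ _ hp hq =>
      intro n h
      have hp' : (DirectSum.decompose 𝒜 p n : A) ∈ 𝒜 (n • 1) := by simp
      have hq' : (DirectSum.decompose 𝒜 q n : A) ∈ 𝒜 (n • 1) := by simp
      have e : Away.mk 𝒜 ha n _ h = Away.mk 𝒜 ha n _ hp' + Away.mk 𝒜 ha n _ hq' := by
        apply HomogeneousLocalization.val_injective
        rw [HomogeneousLocalization.val_add, Away.val_mk, Away.val_mk, Away.val_mk,
          Localization.add_mk_self]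
        simp [DirectSum.decompose_add]
      rw [e, map_add, map_add, hp n hp', hq n hq']
    | smul r p _ hp =>
      intro n h
      have hp' : (DirectSum.decompose 𝒜 p n : A) ∈ 𝒜 (n • 1) := by simp
      have e : Away.mk 𝒜 ha n _ h = scal 𝒜 a r * Away.mk 𝒜 ha n _ hp' := by
        apply HomogeneousLocalization.val_injective
        rw [HomogeneousLocalization.val_mul, Away.val_mk, Away.val_mk]
        have e0 : (scal 𝒜 a r).val = Localization.mk (algebraMap R A r) 1 := rfl
        rw [e0, Localization.mk_mul, one_mul]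
        congr 1
        rw [DirectSum.decompose_smul, DirectSum.smul_apply, SetLike.val_smul, Algebra.smul_def]
      rw [e, map_mul, map_mul, hp n hp']
      exact congrArg (· * _) (DFunLike.congr_fun h0 r)
  refine RingHom.ext fun z => ?_
  obtain ⟨n, b, hb, rfl⟩ := Away.mk_surjective 𝒜 ha z
  have h := key b n
  rw [DirectSum.decompose_of_mem_same 𝒜 (by simpa using hb : b ∈ 𝒜 n)] at h
  exact h hb

variable {X : Scheme.{u}}

/-- The ring map of a morphism to `Proj` on an open inside the preimage of `D₊(a)`. -/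
def alongHom (r : X ⟶ Proj 𝒜) (a : A) (U : X.Opens) (h : U ≤ r ⁻¹ᵁ Proj.basicOpen 𝒜 a) :
    Away 𝒜 a →+* Γ(X, U) :=
  (Proj.awayToSection 𝒜 a ≫ r.appLE _ U h).hom

theorem ι_comp_eq (r : X ⟶ Proj 𝒜) {a : A} (ha : a ∈ 𝒜 1) (U : X.Opens) (h : U ≤ r ⁻¹ᵁ Proj.basicOpen 𝒜 a) :
    U.ι ≫ r = toSpecHom (U.topIso.inv.hom.comp (alongHom r a U h)) ≫ Proj.awayι 𝒜 a ha one_pos := by
  have h1 : (Proj.basicOpen 𝒜 a).ι = Proj.basicOpenToSpec 𝒜 a ≫ Proj.awayι 𝒜 a ha one_pos := by
    rw [← Proj.basicOpenIsoSpec_inv_ι, ← Proj.basicOpenIsoSpec_hom 𝒜 a ha one_pos, Iso.hom_inv_id_assoc]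
  have h2 : r.resLE _ U h ≫ Proj.basicOpenToSpec 𝒜 a = toSpecHom (U.topIso.inv.hom.comp (alongHom r a U h)) := by
    rw [← toSpecHom_homOf (r.resLE _ U h ≫ Proj.basicOpenToSpec 𝒜 a)]
    congr 1
    rw [homOf, Scheme.Hom.comp_appTop]
    have e : (Proj.basicOpenToSpec 𝒜 a).appTop = (Scheme.ΓSpecIso _).hom ≫ Proj.awayToSection 𝒜 a ≫
        (Proj.basicOpen 𝒜 a).topIso.inv := Proj.basicOpenToSpec_app_top 𝒜 a
    have e2 : (r.resLE _ U h).appTop = (Proj.basicOpen 𝒜 a).topIso.hom ≫ r.appLE _ U h ≫ U.topIso.inv :=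
      Scheme.Hom.resLE_app_top r h
    rw [e, e2]
    simp only [Category.assoc, Iso.inv_hom_id_assoc, alongHom]
    rfl
  rw [← h2, Category.assoc, ← h1, Scheme.Hom.resLE_comp_ι]

end Groth.Agent.Lib.ProjMor.Char
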