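import Groth.Agent.Lib.ProjMor.Char
import Groth.Agent.Lib.ProjTilde.Invertible

/-!
# Morphisms to `Proj` = invertible modules with generating degree-one data
-/

noncomputable section

universe u

open CategoryTheory AlgebraicGeometry TopologicalSpace Opposite HomogeneousLocalization

namespace Groth.Agent.Lib.ProjMor.Rep

open TensorMod TensorMod.Basic TensorMod.Free TensorMod.Dual TensorMod.Gen TensorMod.HomGlue TensorMod.Pullback
  Ample.GenLocus Chow.PointMap HProj.Pt Sec Frame Char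

variable {R A : Type u} [CommRing R] [CommRing A] [Algebra R A] {𝒜 : ℕ → Submodule R A} [GradedAlgebra 𝒜]
variable {X : Scheme.{u}} (L : X.Modules)

/-- `r` is over `q` and has coordinates the ratios of the `v a`. -/
structure IsMapFor (q : X ⟶ Spec (CommRingCat.of R)) (v : 𝒜 1 → ProjUP.Γm L) (r : X ⟶ Proj 𝒜) : Prop where
  over : r ≫ str 𝒜 = q
  le : ∀ a : 𝒜 1, locus (v a) ≤ r ⁻¹ᵁ Proj.basicOpen 𝒜 (a : A)
  ratio : ∀ a b : 𝒜 1, gl (v b) (locus (v a)) = r.appLE _ (locus (v a)) (le a) (fr 𝒜 a b) • gl (v a) (locus (v a))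

variable {L}

/-- The scalar part of a morphism to `Spec R` on an open. -/
theorem along_scal {q : X ⟶ Spec (CommRingCat.of R)} {r : X ⟶ Proj 𝒜} (hr : r ≫ str 𝒜 = q) {a : A} (ha : a ∈ 𝒜 1)
    (U : X.Opens) (h : U ≤ r ⁻¹ᵁ Proj.basicOpen 𝒜 a) :
    toSpecHom ((U.topIso.inv.hom.comp (alongHom r a U h)).comp (scal 𝒜 a)) = U.ι ≫ q := by
  rw [← hr, ← Category.assoc, ι_comp_eq r ha U h, str, Category.assoc, ← Category.assoc (Proj.awayι 𝒜 a ha one_pos),
    Proj.awayι_toSpecZero, scal, ← RingHom.comp_assoc]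
  rw [← toSpecHom_specMap, ← toSpecHom_specMap, Category.assoc]

theorem alongHom_fr (r : X ⟶ Proj 𝒜) (a b : 𝒜 1) (U : X.Opens) (h : U ≤ r ⁻¹ᵁ Proj.basicOpen 𝒜 (a : A)) :
    alongHom r (a : A) U h (Away.mk 𝒜 a.2 1 (b : A) (by simp)) = r.appLE _ U h (fr 𝒜 a b) := rfl

/-- Uniqueness. -/
theorem IsMapFor.eq (hgen : Algebra.adjoin R (𝒜 1 : Set A) = ⊤) {q : X ⟶ Spec (CommRingCat.of R)}
    {v : 𝒜 1 → ProjUP.Γm L} (hv : ∀ x, ∃ a, x ∈ locus (v a)) {r r' : X ⟶ Proj 𝒜} (hr : IsMapFor L q v r)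
    (hr' : IsMapFor L q v r') : r = r' := by
  let 𝒰 := X.openCoverOfIsOpenCover (fun a : 𝒜 1 => locus (v a)) (by
    rw [IsOpenCover, eq_top_iff]
    exact fun x _ => Opens.mem_iSup.2 (hv x))
  refine 𝒰.hom_ext _ _ fun a => ?_
  change (locus (v a)).ι ≫ r = (locus (v a)).ι ≫ r'
  rw [ι_comp_eq r a.2 _ (hr.le a), ι_comp_eq r' a.2 _ (hr'.le a)]
  congr 2
  refine away_hom_ext hgen a.2 (toSpecHom_injective ?_) fun b hb => ?_
  · rw [along_scal hr.over a.2, along_scal hr'.over a.2]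
  · have h := (hr.ratio a ⟨b, hb⟩).symm.trans (hr'.ratio a ⟨b, hb⟩)
    have h' := (isGen_locus (v a) _ le_rfl).1 (by simpa only [rs_self] using h)
    exact congrArg (fun t => (locus (v a)).topIso.inv.hom t) h'

/-- Local ring maps with the prescribed coordinates give a morphism. -/
theorem exists_isMapFor (hgen : Algebra.adjoin R (𝒜 1 : Set A) = ⊤) (q : X ⟶ Spec (CommRingCat.of R))
    (v : 𝒜 1 → ProjUP.Γm L) (hv : ∀ x, ∃ a, x ∈ locus (v a))
    (lift : ∀ a : 𝒜 1, ∃ φ : A →+* Γ(X, locus (v a)),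
      toSpecHom (((locus (v a)).topIso.inv.hom.comp φ).comp (algebraMap R A)) = (locus (v a)).ι ≫ q ∧
      ∀ b : 𝒜 1, gl (v b) (locus (v a)) = φ b • gl (v a) (locus (v a))) :
    ∃ r : X ⟶ Proj 𝒜, IsMapFor L q v r := by
  choose φ hφ0 hφ1 using lift
  let U : 𝒜 1 → X.Opens := fun a => locus (v a)
  let 𝒰 := X.openCoverOfIsOpenCover U (by
    rw [IsOpenCover, eq_top_iff]
    exact fun x _ => Opens.mem_iSup.2 (hv x))
  have hφa : ∀ a, φ a a = 1 := fun a => (isGen_locus (v a) _ le_rfl).1 (by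
    simpa only [rs_self, one_smul] using (hφ1 a a).symm)
  let ψ : ∀ a, A →+* Γ((U a : Scheme.{u}), ⊤) := fun a => (U a).topIso.inv.hom.comp (φ a)
  have hu : ∀ a, IsUnit (ψ a a) := fun a => by
    change IsUnit ((U a).topIso.inv.hom (φ a a))
    rw [hφa, map_one]; exact isUnit_one
  let f : ∀ a, (U a : Scheme.{u}) ⟶ Proj 𝒜 := fun a => pt 𝒜 (a : A) a.2 (ψ a) (hu a)
  -- restriction to a smaller open
  have hres : ∀ (a : 𝒜 1) (V : X.Opens) (hV : V ≤ U a) (x : A),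
      (X.homOfLE hV).appTop (ψ a x) = V.topIso.inv (X.presheaf.map (homOfLE hV).op (φ a x)) := fun a V hV x => by
    have e : (U a).topIso.inv ≫ (X.homOfLE hV).appTop = X.presheaf.map (homOfLE hV).op ≫ V.topIso.inv := by
      rw [Scheme.homOfLE_appTop, Scheme.Opens.topIso_inv, Scheme.Opens.topIso_inv]
      exact ((X.presheaf.map_comp _ _).symm.trans (congrArg X.presheaf.map (Subsingleton.elim _ _))).trans
        (X.presheaf.map_comp _ _)
    exact DFunLike.congr_fun (congrArg CommRingCat.Hom.hom e) (φ a x)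
  have hscal : ∀ (a : 𝒜 1) (V : X.Opens) (hV : V ≤ U a),
      toSpecHom (((X.homOfLE hV).appTop.hom.comp (ψ a)).comp (algebraMap R A)) = V.ι ≫ q := fun a V hV => by
    rw [RingHom.comp_assoc, ← comp_toSpecHom, hφ0, Scheme.homOfLE_ι_assoc]
  have hov : ∀ a b, X.homOfLE (inf_le_left : U a ⊓ U b ≤ U a) ≫ f a =
      X.homOfLE (inf_le_right : U a ⊓ U b ≤ U b) ≫ f b := fun a b => by
    let V := U a ⊓ U b
    let χ := (X.homOfLE (inf_le_left : V ≤ U a)).appTop.hom.comp (ψ a)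
    let χ' := (X.homOfLE (inf_le_right : V ≤ U b)).appTop.hom.comp (ψ b)
    obtain ⟨c, hc⟩ : ∃ c : Γ(X, V), IsUnit c ∧ ∀ x : 𝒜 1,
        X.presheaf.map (homOfLE (inf_le_right : V ≤ U b)).op (φ b x) =
          X.presheaf.map (homOfLE (inf_le_left : V ≤ U a)).op (φ a x) * c := by
      refine ⟨X.presheaf.map (homOfLE (inf_le_right : V ≤ U b)).op (φ b a), ?_, fun x => ?_⟩
      · refine isUnit_of_isGen_smul ((isGen_locus (v b)).res (inf_le_right : V ≤ U b)) ?_
        rw [← rs_smul, ← hφ1 b a, rs_gl]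
        simpa only [rs_gl] using (isGen_locus (v a)).res (inf_le_left : V ≤ U a)
      · refine ((isGen_locus (v b)).res (inf_le_right : V ≤ U b) V le_rfl).1 ?_
        simp only [rs_self]
        rw [mul_smul, ← rs_smul, ← rs_smul _ _ (φ b a), ← hφ1 b x, ← hφ1 b a, rs_gl, rs_gl]
        exact ((rs_gl (inf_le_left : V ≤ U a) (v x)).symm.trans (congrArg (rs L _) (hφ1 a x))).trans
          ((rs_smul L _ _ _).trans (congrArg (_ • ·) (rs_gl _ _)))
    obtain ⟨hcu, hc⟩ := hc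
    have hu' : IsUnit (χ' (a : A)) := by
      change IsUnit ((X.homOfLE (inf_le_right : V ≤ U b)).appTop (ψ b a))
      rw [hres, hc a, hφa, map_one, one_mul]
      exact hcu.map _
    rw [comp_pt, comp_pt, pt_indep 𝒜 b.2 a.2 χ' _ hu', pt, pt]
    congr 2
    refine away_hom_ext hgen a.2 ?_ fun x hx => ?_
    · have e : ∀ (χ : A →+* Γ((V : Scheme.{u}), ⊤)) (h : IsUnit (χ a)),
          (awayHom 𝒜 (a : A) χ h).comp (scal 𝒜 (a : A)) = χ.comp (algebraMap R A) := fun χ h => by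
        refine RingHom.ext fun t => ?_
        change Localization.awayLift χ (a : A) h (scal 𝒜 (a : A) t).val = _
        have e0 : (scal 𝒜 (a : A) t).val = algebraMap A (Localization.Away (a : A)) (algebraMap R A t) := by
          rw [← Localization.mk_one_eq_algebraMap]; rfl
        rw [e0]
        simp [Localization.awayLift]
      rw [e, e]
      exact toSpecHom_injective ((hscal a V inf_le_left).trans (hscal b V inf_le_right).symm)
    · rw [awayHom_eq_iff, pow_one]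
      refine hu'.mul_left_cancel ?_
      rw [← mul_assoc, mul_comm (χ' a) (χ a), mul_assoc, ← pow_one (χ' a), awayHom_mk_mul, pow_one]
      change (X.homOfLE (inf_le_right : V ≤ U b)).appTop (ψ b a) * (X.homOfLE (inf_le_left : V ≤ U a)).appTop (ψ a x) =
        (X.homOfLE (inf_le_left : V ≤ U a)).appTop (ψ a a) * (X.homOfLE (inf_le_right : V ≤ U b)).appTop (ψ b x)
      rw [hres, hres, hres, hres, hc ⟨x, hx⟩, hc a, hφa, map_one, one_mul]
      simp only [map_one, map_mul, one_mul]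
      exact mul_comm _ _
  let r : X ⟶ Proj 𝒜 := 𝒰.glueMorphisms f fun (a b : 𝒜 1) => by
    change Limits.pullback.fst (U a).ι (U b).ι ≫ f a = Limits.pullback.snd (U a).ι (U b).ι ≫ f b
    apply (cancel_epi (isPullback_opens_inf (U a) (U b)).isoPullback.hom).1
    simp only [← Category.assoc, IsPullback.isoPullback_hom_fst, IsPullback.isoPullback_hom_snd]
    exact hov a b
  have hι : ∀ a, (U a).ι ≫ r = f a := fun a => 𝒰.ι_glueMorphisms _ _ a
  have hle : ∀ a : 𝒜 1, U a ≤ r ⁻¹ᵁ Proj.basicOpen 𝒜 (a : A) := fun a => by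
    have h : (U a).ι ⁻¹ᵁ (r ⁻¹ᵁ Proj.basicOpen 𝒜 (a : A)) = ⊤ := by
      rw [← Scheme.Hom.comp_preimage, hι, pt_preimage_basicOpen 𝒜 a.2 a.2, Scheme.basicOpen_of_isUnit _ (hu a)]
    intro x hx
    have := h.ge (Opens.mem_top (⟨x, hx⟩ : U a))
    exact this
  have halong : ∀ a, (U a).topIso.inv.hom.comp (alongHom r (a : A) (U a) (hle a)) =
      awayHom 𝒜 (a : A) (ψ a) (hu a) := fun a => toSpecHom_injective
    ((cancel_mono (Proj.awayι 𝒜 (a : A) a.2 one_pos)).1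
      ((ι_comp_eq r a.2 _ (hle a)).symm.trans (hι a)))
  refine ⟨r, 𝒰.hom_ext _ _ fun a => ?_, hle, fun a b => ?_⟩
  · change (U a).ι ≫ r ≫ str 𝒜 = (U a).ι ≫ q
    rw [← Category.assoc, hι, str, ← Category.assoc, pt_toSpecZero, toSpecHom_specMap, ← hφ0 a]
    rfl
  · have h := DFunLike.congr_fun (halong a) (Away.mk 𝒜 a.2 1 (b : A) (by simp))
    have h2 := awayHom_mk_mul 𝒜 a.2 (ψ a) (hu a) 1 (a := (b : A)) (by simp)
    rw [← h, pow_one] at h2
    change (U a).topIso.inv.hom (φ a a) * (U a).topIso.inv.hom (r.appLE _ (U a) (hle a) (fr 𝒜 a b)) =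
      (U a).topIso.inv.hom (φ a b) at h2
    rw [hφa, map_one, one_mul] at h2
    rw [(ConcreteCategory.bijective_of_isIso (U a).topIso.inv).1 h2]
    exact hφ1 a b

theorem isMapFor_of_iso (hcov : ∀ x : ProjectiveSpectrum 𝒜, ∃ c : 𝒜 1, (c : A) ∉ x.asHomogeneousIdeal)
    {q : X ⟶ Spec (CommRingCat.of R)} {r : X ⟶ Proj 𝒜} (hr : r ≫ str 𝒜 = q) {v : 𝒜 1 → ProjUP.Γm L}
    (τ : (Scheme.Modules.pullback r).obj (Twist.twist 𝒜 1) ≅ L)
    (hτ : ∀ a, τ.hom.app ⊤ (ProjUP.pullSec r (Twist.twist 𝒜 1) (g 𝒜 a)) = v a) : IsMapFor L q v r := by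
  have hinv : PicF.IsInvertible (Twist.twist 𝒜 1) :=
    Groth.Agent.Lib.ProjTilde.Invertible.twist_isInvertible_of_cover (fun x => by
      obtain ⟨c, hc⟩ := hcov x
      exact ⟨c, c.2, hc⟩) 1
  have hloc : ∀ a, locus (v a) = r ⁻¹ᵁ Proj.basicOpen 𝒜 (a : A) := fun a => by
    rw [← hτ, locus_iso, locus_pullback hinv, locus_g hcov]
  refine ⟨hr, fun a => (hloc a).le, fun a b => ?_⟩
  have h1 := congrArg (unitSec r (Twist.twist 𝒜 1)) (g_eq_fr_smul a b)
  rw [unitSec_smul, ← gl_pullSec, ← gl_pullSec] at h1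
  have h2 := congrArg (fun t => τ.hom.app (r ⁻¹ᵁ Proj.basicOpen 𝒜 (a : A)) t) h1
  simp only [Scheme.Modules.Hom.app_smul, app_gl, hτ] at h2
  have h3 := congrArg (rs L (hloc a).le) h2
  rw [rs_smul, rs_gl, rs_gl] at h3
  exact h3

theorem exists_iso_of_isMapFor {q : X ⟶ Spec (CommRingCat.of R)} {r : X ⟶ Proj 𝒜} {v : 𝒜 1 → ProjUP.Γm L}
    (hr : IsMapFor L q v r) (hv : ∀ x, ∃ a, x ∈ locus (v a)) :
    ∃ τ : (Scheme.Modules.pullback r).obj (Twist.twist 𝒜 1) ≅ L,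
      ∀ a, τ.hom.app ⊤ (ProjUP.pullSec r (Twist.twist 𝒜 1) (g 𝒜 a)) = v a := by
  let P := (pb r).obj (Twist.twist 𝒜 1)
  let U : 𝒜 1 → X.Opens := fun a => locus (v a)
  have hU : iSup U = ⊤ := eq_top_iff.2 fun x _ => Opens.mem_iSup.2 (hv x)
  let e : ∀ a, Γ(P, U a) := fun a => gl (ProjUP.pullSec r (Twist.twist 𝒜 1) (g 𝒜 a)) (U a)
  have he : ∀ a, IsGen P (U a) (e a) := fun a => by
    have h := (isGen_unitSec r (isGen_g a)).res (hr.le a)
    rwa [← gl_pullSec, rs_gl] at h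
  have hratio : ∀ a b, gl (ProjUP.pullSec r (Twist.twist 𝒜 1) (g 𝒜 b)) (U a) =
      r.appLE _ (U a) (hr.le a) (fr 𝒜 a b) • e a := fun a b => by
    have h1 := congrArg (unitSec r (Twist.twist 𝒜 1)) (g_eq_fr_smul a b)
    rw [unitSec_smul, ← gl_pullSec, ← gl_pullSec] at h1
    have h3 := congrArg (rs P (hr.le a)) h1
    rw [rs_smul, rs_gl, rs_gl] at h3
    exact h3
  obtain ⟨τ, hτ⟩ := exists_iso_of_gen hU e he (fun a => gl (v a) (U a)) (fun a => isGen_locus (v a))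
    fun i j W hi hj c hc => by
      have h2 := congrArg (rs P hj) (hratio j i)
      rw [rs_gl, rs_smul] at h2
      simp only [e, rs_gl] at hc h2
      have hcc := (((he j).res hj) W le_rfl).1 (by simpa [e, rs_gl] using hc.symm.trans h2)
      have h4 := congrArg (rs L hj) (hr.ratio j i)
      rw [rs_gl, rs_smul] at h4
      rw [rs_gl, rs_gl, hcc]
      simpa only [rs_gl] using h4
  refine ⟨τ, fun b => ?_⟩
  refine sections_ext_cover U L (by rw [hU]) fun a => ?_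
  have h := hr.ratio a b
  have h1 := congrArg (τ.hom.app (U a)) (hratio a b)
  rw [Scheme.Modules.Hom.app_smul, hτ, app_gl] at h1
  have h2 := congrArg (rs L (inf_le_right : ⊤ ⊓ U a ≤ U a)) (h1.trans h.symm)
  rwa [rs_gl, rs_gl] at h2

end Groth.Agent.Lib.ProjMor.Rep
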