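import Groth.Agent.Lib.ProjMor.Poly
import Groth.Agent.Lib.CohBasics.Affine

/-!
# Points of projective space over an affine base and kernels of their coordinates
-/

noncomputable section

universe u

open CategoryTheory CategoryTheory.Limits AlgebraicGeometry TopologicalSpace Opposite

namespace Groth.Agent.Lib.ProjMor.SecKer

variable {R : CommRingCat.{u}}

/-- A linear map on global sections comes from a morphism of quasi-coherent modules. -/
theorem exists_hom (M N : (Spec R).Modules) [M.IsQuasicoherent]
    (g : moduleSpecΓFunctor.obj M ⟶ moduleSpecΓFunctor.obj N) :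
    ∃ φ : M ⟶ N, moduleSpecΓFunctor.map φ = g := by
  haveI : IsIso ((tilde.adjunction (R := R)).counit.app M) := Scheme.Modules.isIso_fromTildeΓ_of_isQuasicoherent M
  let adj := tilde.adjunction (R := R)
  refine ⟨inv (adj.counit.app M) ≫ (adj.homEquiv _ _).symm g, ?_⟩
  conv_rhs => rw [← Equiv.apply_symm_apply (adj.homEquiv _ _) g, Adjunction.homEquiv_unit]
  rw [Functor.map_comp, Functor.map_inv]
  congr 1
  exact IsIso.inv_eq_of_inv_hom_id (adj.right_triangle_components M)

/-- An isomorphism on global sections comes from an isomorphism of quasi-coherent modules. -/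
theorem exists_iso (M N : (Spec R).Modules) [M.IsQuasicoherent] [N.IsQuasicoherent]
    (g : moduleSpecΓFunctor.obj M ≅ moduleSpecΓFunctor.obj N) :
    ∃ τ : M ≅ N, moduleSpecΓFunctor.map τ.hom = g.hom := by
  haveI : IsIso ((tilde.adjunction (R := R)).counit.app M) := Scheme.Modules.isIso_fromTildeΓ_of_isQuasicoherent M
  haveI hN : IsIso ((tilde.adjunction (R := R)).counit.app N) := Scheme.Modules.isIso_fromTildeΓ_of_isQuasicoherent N
  obtain ⟨φ, hφ⟩ := exists_hom M N g.hom
  have h : tilde.map (moduleSpecΓFunctor.map φ) ≫ (tilde.adjunction (R := R)).counit.app N =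
      (tilde.adjunction (R := R)).counit.app M ≫ φ := (tilde.adjunction (R := R)).counit.naturality φ
  have hi : IsIso (tilde.map (moduleSpecΓFunctor.map φ)) := by
    rw [hφ]; exact inferInstanceAs (IsIso ((tilde.functor R).map g.hom))
  haveI : IsIso ((tilde.adjunction (R := R)).counit.app M ≫ φ) := by
    rw [← h]; exact @IsIso.comp_isIso _ _ _ _ _ _ _ hi hN
  haveI : IsIso φ := IsIso.of_isIso_comp_left ((tilde.adjunction (R := R)).counit.app M) φ
  exact ⟨asIso φ, hφ⟩

/-- Global sections generating all stalks of a quasi-coherent module on an affine scheme span over the ring. -/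
theorem combination_surjective {ι : Type*} [Fintype ι] (M : (Spec R).Modules) [M.IsQuasicoherent]
    (s : ι → Γ(M, ⊤)) (hs : ProjUP.GeneratedBy M s) :
    Function.Surjective (Fintype.linearCombination R s) := by
  have h := CohBasics.Affine.span_eq_top_of_germ (isAffineOpen_top (Spec R)) (Set.range s) fun x _ => by
    rw [← Set.range_comp]
    exact hs x
  rw [← LinearMap.range_eq_top, Fintype.range_linearCombination, eq_top_iff]
  intro m hmt
  clear hmt
  have hm : m ∈ Submodule.span Γ(Spec R, ⊤) (Set.range s) := h ▸ Submodule.mem_top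
  induction hm using Submodule.span_induction with
  | mem t ht => exact Submodule.subset_span ht
  | zero => exact Submodule.zero_mem _
  | add _ _ _ _ ha hb => exact Submodule.add_mem _ ha hb
  | smul a t _ ht =>
    have ha : a • t = (Scheme.ΓSpecIso R).hom a • t := by
      rw [Scheme.Modules.smul_Spec_def, Subsingleton.elim (⊤ : (Spec R).Opens).leTop.op (𝟙 _)]
      simp
    rw [ha]
    exact Submodule.smul_mem _ _ ht

/-- Two generating families with the same relations differ by a unique isomorphism. -/
theorem smul_top (M : (Spec R).Modules) (a : R) (x : Γ(M, ⊤)) :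
    a • x = (Scheme.ΓSpecIso R).inv.hom a • x := by
  rw [Scheme.Modules.smul_Spec_def, Subsingleton.elim (⊤ : (Spec R).Opens).leTop.op (𝟙 _)]
  simp

theorem exists_iso_of_ker_eq {ι : Type*} [Fintype ι] (M N : (Spec R).Modules) [M.IsQuasicoherent]
    [N.IsQuasicoherent] (s : ι → Γ(M, ⊤)) (t : ι → Γ(N, ⊤)) (hs : ProjUP.GeneratedBy M s)
    (ht : ProjUP.GeneratedBy N t)
    (h : LinearMap.ker (Fintype.linearCombination R s) = LinearMap.ker (Fintype.linearCombination R t)) :
    ∃ τ : M ≅ N, ∀ i, τ.hom.app ⊤ (s i) = t i := by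
  classical
  let e1 := (Fintype.linearCombination R s).quotKerEquivOfSurjective (combination_surjective M s hs)
  let e2 := (Fintype.linearCombination R t).quotKerEquivOfSurjective (combination_surjective N t ht)
  let e : Γ(M, ⊤) ≃ₗ[R] Γ(N, ⊤) := e1.symm ≪≫ₗ Submodule.quotEquivOfEq _ _ h ≪≫ₗ e2
  obtain ⟨τ, hτ⟩ := exists_iso M N e.toModuleIso
  refine ⟨τ, fun i => ?_⟩
  have h1 : τ.hom.app ⊤ (s i) = e (s i) := congrArg (fun f => f.hom (s i)) hτ
  rw [h1]
  have h2 : e1 (Submodule.Quotient.mk (Pi.single i (1 : R))) = s i := by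
    simp [e1, LinearMap.quotKerEquivOfSurjective, Fintype.linearCombination_apply_single]
  rw [← h2]
  simp [e, e2, LinearMap.quotKerEquivOfSurjective, Fintype.linearCombination_apply_single]


/-- Two generating families with the same relations differ by an isomorphism, relations written with global functions. -/
theorem exists_iso_of_relations {ι : Type*} [Fintype ι] (M N : (Spec R).Modules) [M.IsQuasicoherent]
    [N.IsQuasicoherent] (s : ι → Γ(M, ⊤)) (t : ι → Γ(N, ⊤)) (hs : ProjUP.GeneratedBy M s)
    (ht : ProjUP.GeneratedBy N t)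
    (h : ∀ c : ι → R, ∑ i, (Scheme.ΓSpecIso R).inv.hom (c i) • s i = 0 ↔
      ∑ i, (Scheme.ΓSpecIso R).inv.hom (c i) • t i = 0) :
    ∃ τ : M ≅ N, ∀ i, τ.hom.app ⊤ (s i) = t i := by
  classical
  refine exists_iso_of_ker_eq M N s t hs ht ?_
  ext c
  simp only [LinearMap.mem_ker, Fintype.linearCombination_apply, smul_top]
  exact h c

end Groth.Agent.Lib.ProjMor.SecKer
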