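import Groth.Agent.Lib.ProjMor.SecKer
import Groth.Agent.Lib.ProjMor.InvTilde

/-!
# Relations among generating sections of an invertible sheaf on an affine scheme
-/

noncomputable section

universe u

open CategoryTheory CategoryTheory.Limits AlgebraicGeometry TopologicalSpace Opposite

namespace Groth.Agent.Lib.ProjMor.SecKerRank

variable {R : CommRingCat.{u}} {n : ℕ}

/-- The quotient by the relations among generators of an invertible module is projective of rank one. -/
theorem projective_rankOne (L : (Spec R).Modules) [L.IsQuasicoherent] (hL : PicF.IsInvertible L)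
    (t : Fin n → Γ(L, ⊤)) (hg : ProjUP.GeneratedBy L t) (F : Submodule R (Fin n → R))
    (hF : ∀ c, c ∈ F ↔ ∑ i, (Scheme.ΓSpecIso R).inv.hom (c i) • t i = 0) :
    Module.Projective R ((Fin n → R) ⧸ F) ∧ ∀ p : PrimeSpectrum R, Module.rankAtStalk ((Fin n → R) ⧸ F) p = 1 := by
  haveI : IsIso (tilde.adjunction.counit.app L) := Scheme.Modules.isIso_fromTildeΓ_of_isQuasicoherent L
  obtain ⟨_, hproj, hrk⟩ := InvTilde.rank_one_of_isInvertible
    (moduleSpecΓFunctor.obj L) (TensorMod.Invertible.isInvertible_of_iso
      (asIso (tilde.adjunction.counit.app L)).symm hL)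
  have hK : F = LinearMap.ker (Fintype.linearCombination R t) := by
    ext c
    simp only [LinearMap.mem_ker, Fintype.linearCombination_apply, SecKer.smul_top]
    exact hF c
  let e : ((Fin n → R) ⧸ F) ≃ₗ[R] moduleSpecΓFunctor.obj L :=
    (Submodule.quotEquivOfEq _ _ hK).trans ((Fintype.linearCombination R t).quotKerEquivOfSurjective
      (SecKer.combination_surjective L t hg))
  exact ⟨Module.Projective.of_equiv e.symm, fun p =>
    (congrFun (Module.rankAtStalk_eq_of_equiv e) p).trans (hrk p)⟩

/-- A quotient of a free module which is projective of rank one gives an invertible module with generators. -/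
theorem exists_invertible (F : Submodule R (Fin n → R)) [Module.Projective R ((Fin n → R) ⧸ F)]
    (hrk : ∀ p : PrimeSpectrum R, Module.rankAtStalk ((Fin n → R) ⧸ F) p = 1) :
    ∃ (L : (Spec R).Modules) (_ : PicF.IsInvertible L) (t : Fin n → Γ(L, ⊤)), ProjUP.GeneratedBy L t ∧
      ∀ c, c ∈ F ↔ ∑ i, (Scheme.ΓSpecIso R).inv.hom (c i) • t i = 0 := by
  classical
  let Q : ModuleCat.{u} R := ModuleCat.of R ((Fin n → R) ⧸ F)
  let v : Q →ₗ[R] Γ(tilde Q, ⊤) := (tilde.toOpen Q ⊤).hom
  have hv : Function.Bijective v := ConcreteCategory.bijective_of_isIso (tilde.toOpen Q ⊤)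
  let t : Fin n → Γ(tilde Q, ⊤) := fun i => v (Submodule.Quotient.mk (Pi.single i 1))
  have hsum : ∀ c : Fin n → R, Fintype.linearCombination R t c = v (Submodule.Quotient.mk c) := fun c => by
    have h : (Fintype.linearCombination R t) = v ∘ₗ F.mkQ := by
      refine (Pi.basisFun R _).ext fun i => ?_
      simp [t]; rfl
    exact LinearMap.congr_fun h c
  refine ⟨tilde Q, InvTilde.isInvertible_of_projective Q hrk, t, fun x => ?_, fun c => ?_⟩
  · have h := CohBasics.Affine.germ_span_eq_top (M := tilde Q) (isAffineOpen_top (Spec R)) (Set.range t)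
      (eq_top_iff.2 fun m _ => by
        obtain ⟨q, rfl⟩ := hv.2 m
        obtain ⟨c, rfl⟩ := Submodule.Quotient.mk_surjective F q
        rw [← hsum, Fintype.linearCombination_apply]
        refine Submodule.sum_mem _ fun i _ => ?_
        rw [SecKer.smul_top]
        exact Submodule.smul_mem _ _ (Submodule.subset_span ⟨i, rfl⟩)) (x := x) trivial
    rw [← Set.range_comp] at h
    exact h
  · have h := hsum c
    simp only [Fintype.linearCombination_apply, SecKer.smul_top] at h
    rw [h, map_eq_zero_iff v hv.1, Submodule.Quotient.mk_eq_zero]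

end Groth.Agent.Lib.ProjMor.SecKerRank
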