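import Groth.Agent.Lib.ProjMor.Main

/-!
# Uniqueness, tested on a spanning set of degree-one elements
-/

noncomputable section

universe u

open CategoryTheory AlgebraicGeometry TopologicalSpace Opposite HomogeneousLocalization

namespace Groth.Agent.Lib.ProjMor.Uniq

open TensorMod TensorMod.Basic TensorMod.Free TensorMod.Dual TensorMod.Gen TensorMod.HomGlue TensorMod.Pullback
  Ample.GenLocus Chow.PointMap Sec Frame Char Rep

variable {R A : Type u} [CommRing R] [CommRing A] [Algebra R A] {𝒜 : ℕ → Submodule R A} [GradedAlgebra 𝒜]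
variable {M : Type u} [AddCommGroup M] [Module R M] {ι : M →ₗ[R] A} (hι : ∀ m, ι m ∈ 𝒜 1)
  (hadj : Algebra.adjoin R (Set.range ι) = ⊤)

/-- The pulled-back sections in the frame of one of them. -/
theorem gl_pullSec_g {X : Scheme.{u}} (r : X ⟶ Proj 𝒜) (a b : 𝒜 1) {U : X.Opens}
    (h : U ≤ r ⁻¹ᵁ Proj.basicOpen 𝒜 (a : A)) :
    gl (ProjUP.pullSec r (Twist.twist 𝒜 1) (g 𝒜 b)) U =
      r.appLE _ U h (fr 𝒜 a b) • gl (ProjUP.pullSec r (Twist.twist 𝒜 1) (g 𝒜 a)) U := by
  have h1 := congrArg (unitSec r (Twist.twist 𝒜 1)) (g_eq_fr_smul a b)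
  rw [unitSec_smul, ← gl_pullSec, ← gl_pullSec] at h1
  have h3 := congrArg (rs ((pb r).obj (Twist.twist 𝒜 1)) h) h1
  rw [rs_smul, rs_gl, rs_gl] at h3
  exact h3

include hι hadj in
theorem eq_of_iso_span {T : Set M} (hT : Submodule.span R T = ⊤) {X : Scheme.{u}} {r r' : X ⟶ Proj 𝒜}
    (hrr' : r ≫ str 𝒜 = r' ≫ str 𝒜)
    (τ : (Scheme.Modules.pullback r).obj (Twist.twist 𝒜 1) ≅ (Scheme.Modules.pullback r').obj (Twist.twist 𝒜 1))
    (hτ : ∀ m ∈ T, τ.hom.app ⊤ (ProjUP.pullSec r (Twist.twist 𝒜 1) (g 𝒜 ⟨ι m, hι m⟩)) =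
      ProjUP.pullSec r' (Twist.twist 𝒜 1) (g 𝒜 ⟨ι m, hι m⟩)) : r = r' := by
  have hcov := Main.cover hι hadj
  have hinv : PicF.IsInvertible (Twist.twist 𝒜 1) :=
    Groth.Agent.Lib.ProjTilde.Invertible.twist_isInvertible_of_cover (fun x => by
      obtain ⟨c, hc⟩ := hcov x
      exact ⟨c, c.2, hc⟩) 1
  let el : T → 𝒜 1 := fun t => ⟨ι t, hι t⟩
  have hpre : ∀ t : T, r ⁻¹ᵁ Proj.basicOpen 𝒜 (el t : A) = r' ⁻¹ᵁ Proj.basicOpen 𝒜 (el t : A) := fun t => by
    rw [← locus_g hcov, ← locus_pullback hinv, ← locus_pullback hinv, ← locus_iso τ]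
    exact congrArg locus (hτ t.1 t.2)
  let U : T → X.Opens := fun t => r' ⁻¹ᵁ Proj.basicOpen 𝒜 (el t : A)
  have hU : ∀ x, ∃ t, x ∈ U t := fun x => by
    by_contra hc
    push Not at hc
    obtain ⟨c, hcx⟩ := hcov (r' x)
    obtain ⟨m, hm⟩ := Main.exists_preimage hι hadj c
    refine hcx (hm ▸ ?_)
    have hle : Submodule.span R T ≤
        ((r' x).asHomogeneousIdeal.toIdeal.restrictScalars R).comap ι := by
      rw [Submodule.span_le]
      intro t ht
      have h := hc ⟨t, ht⟩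
      change ¬ (ι t ∉ (r' x).asHomogeneousIdeal) at h
      exact not_not.1 h
    exact hle (hT ▸ Submodule.mem_top : m ∈ Submodule.span R T)
  let 𝒰 := X.openCoverOfIsOpenCover U (by
    rw [IsOpenCover, eq_top_iff]
    exact fun x _ => Opens.mem_iSup.2 (hU x))
  refine 𝒰.hom_ext _ _ fun (t : T) => ?_
  change (U t).ι ≫ r = (U t).ι ≫ r'
  rw [ι_comp_eq r (el t).2 (U t) (hpre t).ge, ι_comp_eq r' (el t).2 (U t) le_rfl]
  congr 2
  have h0 : ((U t).topIso.inv.hom.comp (alongHom r (el t : A) (U t) (hpre t).ge)).comp (scal 𝒜 (el t : A)) =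
      ((U t).topIso.inv.hom.comp (alongHom r' (el t : A) (U t) le_rfl)).comp (scal 𝒜 (el t : A)) :=
    toSpecHom_injective (by rw [along_scal hrr' (el t).2, along_scal rfl (el t).2])
  refine away_hom_ext (Main.adjoin_degOne hι hadj) (el t).2 h0 fun b hb => ?_
  obtain ⟨m, hm0⟩ := Main.exists_preimage hι hadj ⟨b, hb⟩
  change ι m = b at hm0
  subst hm0
  have hm : m ∈ Submodule.span R T := hT ▸ Submodule.mem_top
  generalize hD : alongHom r (el t : A) (U t) (hpre t).ge = D
  generalize hD' : alongHom r' (el t : A) (U t) le_rfl = D'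
  rw [hD, hD'] at h0
  induction hm using Submodule.span_induction with
  | mem s hs =>
    subst hD hD'
    refine congrArg (fun z => (U t).topIso.inv.hom z) ?_
    have h1 := gl_pullSec_g r (el t) (el ⟨s, hs⟩) (hpre t).ge
    have h2 := congrArg (fun z => τ.hom.app (U t) z) h1
    simp only [Scheme.Modules.Hom.app_smul, app_gl] at h2
    change _ = _ at h2
    erw [hτ s hs, hτ t.1 t.2] at h2
    have h3 := h2.symm.trans (gl_pullSec_g r' (el t) (el ⟨s, hs⟩) (le_refl (U t)))
    have hg := (isGen_unitSec r' (isGen_g (el t)))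
    rw [← gl_pullSec] at hg
    refine (hg (U t) le_rfl).1 ?_
    simp only [rs_self]
    exact h3
  | zero =>
    have e : Away.mk 𝒜 (el t).2 1 (ι 0) (by rw [one_smul]; exact hι _) = 0 := by
      apply HomogeneousLocalization.val_injective
      rw [Away.val_mk, HomogeneousLocalization.val_zero, map_zero ι, Localization.mk_zero]
    rw [e, map_zero, map_zero]
  | add p q _ _ hp hq =>
    have e : Away.mk 𝒜 (el t).2 1 (ι (p + q)) (by rw [one_smul]; exact hι _) =
        Away.mk 𝒜 (el t).2 1 (ι p) (by rw [one_smul]; exact hι _) + Away.mk 𝒜 (el t).2 1 (ι q) (by rw [one_smul]; exact hι _) := by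
      apply HomogeneousLocalization.val_injective
      rw [HomogeneousLocalization.val_add, Away.val_mk, Away.val_mk, Away.val_mk, Localization.add_mk_self,
        map_add]
    rw [e, map_add, map_add, hp (hι p), hq (hι q)]
  | smul c p _ hp =>
    have e : Away.mk 𝒜 (el t).2 1 (ι (c • p)) (by rw [one_smul]; exact hι _) =
        scal 𝒜 (el t : A) c * Away.mk 𝒜 (el t).2 1 (ι p) (by rw [one_smul]; exact hι _) := by
      apply HomogeneousLocalization.val_injective
      rw [HomogeneousLocalization.val_mul, Away.val_mk, Away.val_mk]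
      have e0 : (scal 𝒜 (el t : A) c).val = Localization.mk (algebraMap R A c) 1 := rfl
      rw [e0, Localization.mk_mul, one_mul, map_smul, Algebra.smul_def]
    rw [e, map_mul, map_mul, hp (hι p)]
    exact congrArg (· * _) (DFunLike.congr_fun h0 c)

end Groth.Agent.Lib.ProjMor.Uniq
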